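import Groth.Agent.Fdesc.FlatBC
import Groth.Agent.FormalA.PullbackQC
import Groth.Agent.Ega1.ExtendAff2
import Groth.Agent.Ega1.TildePullback
import Groth.Agent.Ega43.FlatKer
import Groth.Agent.Desc.FPSections
import Groth.Agent.S2394
import Groth.Agent.Smoothlim.FPMod
import Groth.Agent.Etbase.FPModel
import Groth.Agent.Models2.FlatIso

/-!
# Noetherian approximation of affine morphisms of finite presentation, with a module and flatness

* `isPullback_of_isPushout`: a pushout model of `Γ(S) → Γ(X)` gives a cartesian square.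
* `exists_tilde_of_affine`: a finitely presented quasi-coherent module on an affine scheme.
* `approx_flat`, `approx_module`, `approx_flat_module`.
-/

set_option autoImplicit false
universe u

open AlgebraicGeometry CategoryTheory Limits TensorProduct

namespace K258.Approx

/-- A pushout model of the ring map of a morphism of affine schemes gives a cartesian square. -/
theorem isPullback_of_isPushout {X S : Scheme.{u}} (f : X ⟶ S) [IsAffine X] [IsAffine S]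
    (A₀ B₀ : Type u) [CommRing A₀] [CommRing B₀] [Algebra A₀ B₀] (a : A₀ →+* Γ(S, ⊤))
    (b : B₀ →+* Γ(X, ⊤))
    (h : IsPushout (CommRingCat.ofHom a) (CommRingCat.ofHom (algebraMap A₀ B₀)) f.appTop
      (CommRingCat.ofHom b)) :
    IsPullback (X.isoSpec.hom ≫ Spec.map (CommRingCat.ofHom b)) f
      (Spec.map (CommRingCat.ofHom (algebraMap A₀ B₀)))
      (S.isoSpec.hom ≫ Spec.map (CommRingCat.ofHom a)) := by
  have h1 := isPullback_SpecMap_of_isPushout _ _ _ _ h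
  have h2 : IsPullback X.isoSpec.hom f (Spec.map f.appTop) S.isoSpec.hom :=
    IsPullback.of_horiz_isIso ⟨Scheme.isoSpec_hom_naturality f⟩
  exact h2.paste_horiz h1.flip

/-- the global sections of the spectrum of a finite type `ℤ`-algebra are of finite type -/
theorem finiteType_Γ (A : Type u) [CommRing A] [h : Algebra.FiniteType ℤ A] :
    Algebra.FiniteType ℤ Γ(Spec (CommRingCat.of A), ⊤) := by
  let e' : A ≃+* Γ(Spec (CommRingCat.of A), ⊤) :=
    (Scheme.ΓSpecIso (CommRingCat.of A)).symm.commRingCatIsoToRingEquiv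
  exact h.equiv (e'.toIntAlgEquiv)

theorem appLE_top_top {X S : Scheme.{u}} (f : X ⟶ S) : f.appLE ⊤ ⊤ le_top = f.appTop :=
  (Scheme.Hom.app_eq_appLE f (U := ⊤)).symm

theorem appTop_finitePresentation {X S : Scheme.{u}} (f : X ⟶ S) [IsAffine X] [IsAffine S]
    [LocallyOfFinitePresentation f] : f.appTop.hom.FinitePresentation := by
  have := f.finitePresentation_appLE (isAffineOpen_top S) (isAffineOpen_top X) le_top
  rwa [appLE_top_top] at this

theorem approx_flat {X S : Scheme.{u}} (f : X ⟶ S) [IsAffine X] [IsAffine S]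
    [LocallyOfFinitePresentation f] [Flat f] :
    ∃ (X₀ S₀ : Scheme.{u}) (f₀ : X₀ ⟶ S₀) (g : S ⟶ S₀) (g' : X ⟶ X₀), IsAffine X₀ ∧ IsAffine S₀ ∧
      IsPullback g' f f₀ g ∧ Algebra.FiniteType ℤ Γ(S₀, ⊤) ∧ LocallyOfFiniteType f₀ ∧ Flat f₀ := by
  have h1 := appTop_finitePresentation f
  have h2 : f.appTop.hom.Flat := by
    have := f.flat_appLE (isAffineOpen_top S) (isAffineOpen_top X) le_top
    rwa [appLE_top_top] at this
  algebraize [f.appTop.hom]
  obtain ⟨A₀, B₀, _, _, _, _, -, h3, h4, h5, ⟨e⟩⟩ :=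
    Groth.Agent.Etbase.FPModel.exists_model_flat Γ(S, ⊤) Γ(X, ⊤)
  have hpo : IsPushout (CommRingCat.ofHom (algebraMap A₀ Γ(S, ⊤)))
      (CommRingCat.ofHom (algebraMap A₀ B₀)) f.appTop (CommRingCat.ofHom (e.toRingHom.comp
      (Algebra.TensorProduct.includeRight : B₀ →ₐ[A₀] Γ(S, ⊤) ⊗[A₀] B₀).toRingHom)) :=
    (CommRingCat.isPushout_tensorProduct A₀ Γ(S, ⊤) B₀).of_iso (Iso.refl _) (Iso.refl _)
      (Iso.refl _) e.toRingEquiv.toCommRingCatIso (by simp) (by simp)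
      (by ext x; exact e.commutes x) (by ext x; simp)
  refine ⟨Spec (CommRingCat.of B₀), Spec (CommRingCat.of A₀),
    Spec.map (CommRingCat.ofHom (algebraMap A₀ B₀)), _, _, inferInstance, inferInstance,
    isPullback_of_isPushout f A₀ B₀ _ _ hpo, finiteType_Γ A₀, ?_, ?_⟩
  · rw [HasRingHomProperty.Spec_iff (P := @LocallyOfFiniteType), CommRingCat.hom_ofHom,
      RingHom.finiteType_algebraMap]
    infer_instance
  · rw [HasRingHomProperty.Spec_iff (P := @Flat), CommRingCat.hom_ofHom,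
      RingHom.flat_algebraMap_iff]
    exact h5

open Groth.Agent.Smoothlim.FPMod in
theorem exists_tilde_of_affine {X : Scheme.{u}} [IsAffine X] (F : X.Modules) (hq : Coh.IsQCoh F)
    (hF : CohB1.IsFP F) : ∃ (N : Type u) (_ : AddCommGroup N) (_ : Module Γ(X, ⊤) N),
      Module.FinitePresentation Γ(X, ⊤) N ∧
      Nonempty ((Scheme.Modules.pullback X.isoSpec.inv).obj F ≅
        tilde (R := Γ(X, ⊤)) (ModuleCat.of Γ(X, ⊤) N)) := by
  have h1 := Groth.Agent.Desc.FPSections.finitePresentation_sections (isAffineOpen_top X) hq hF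
  have h2 := (affFP_iff F (isAffineOpen_top X)).mpr
    ((Groth.Agent.CohqA.AffSec.gfp_iff (isAffineOpen_top X) hq).mpr h1)
  obtain ⟨N, hN, ⟨e⟩⟩ := h2
  refine ⟨N, inferInstance, inferInstance, hN, ⟨?_⟩⟩
  exact (Scheme.Modules.pullbackCongr (IsAffineOpen.fromSpec_top (X := X)).symm).app F ≪≫
    ((Scheme.Modules.restrictFunctorIsoPullback _).app F).symm ≪≫ e

/-- the modules part of the construction -/
theorem exists_iso {X : Scheme.{u}} [IsAffine X] (F : X.Modules) (N : Type u) [AddCommGroup N]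
    [Module Γ(X, ⊤) N] (e : (Scheme.Modules.pullback X.isoSpec.inv).obj F ≅
        tilde (R := Γ(X, ⊤)) (ModuleCat.of Γ(X, ⊤) N)) (B₀ M₀ : Type u) [CommRing B₀]
    [Algebra B₀ Γ(X, ⊤)] [AddCommGroup M₀] [Module B₀ M₀] [Module B₀ N]
    [IsScalarTower B₀ Γ(X, ⊤) N] (g : M₀ →ₗ[B₀] N) (hg : IsBaseChange Γ(X, ⊤) g) :
    Nonempty ((Scheme.Modules.pullback (X.isoSpec.hom ≫ Spec.map (CommRingCat.ofHom
      (algebraMap B₀ Γ(X, ⊤))))).obj (tilde (R := CommRingCat.of B₀) (ModuleCat.of B₀ M₀)) ≅ F) := by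
  have e1 := Groth.Agent.Ega1.TildePullback.pullbackTildeIso B₀ Γ(X, ⊤) M₀
  have e2 : tilde (R := Γ(X, ⊤)) (ModuleCat.of Γ(X, ⊤) (Γ(X, ⊤) ⊗[B₀] M₀)) ≅
      tilde (R := Γ(X, ⊤)) (ModuleCat.of Γ(X, ⊤) N) :=
    (tilde.functor Γ(X, ⊤)).mapIso (LinearEquiv.toModuleIso (hg.equiv))
  exact ⟨((Scheme.Modules.pullbackComp _ _).app _).symm ≪≫
    (Scheme.Modules.pullback X.isoSpec.hom).mapIso (e1 ≪≫ e2 ≪≫ e.symm) ≪≫
    (Scheme.Modules.pullbackComp _ _).app _ ≪≫
    (Scheme.Modules.pullbackCongr X.isoSpec.hom_inv_id).app _ ≪≫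
    (Scheme.Modules.pullbackId _).app _⟩

theorem isPushout_of_isPushout {A B A₀ B₀ : Type u} [CommRing A] [CommRing B]
    [CommRing A₀] [CommRing B₀] [Algebra A₀ A] [Algebra A₀ B₀] [Algebra A B] [Algebra B₀ B]
    [Algebra A₀ B] [IsScalarTower A₀ A B] [IsScalarTower A₀ B₀ B]
    [h : Algebra.IsPushout A₀ A B₀ B] : IsPushout (CommRingCat.ofHom (algebraMap A₀ A))
      (CommRingCat.ofHom (algebraMap A₀ B₀)) (CommRingCat.ofHom (algebraMap A B))
      (CommRingCat.ofHom (algebraMap B₀ B)) :=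
  CommRingCat.isPushout_iff_isPushout.2 h

theorem approx_module {X S : Scheme.{u}} (f : X ⟶ S) [IsAffine X] [IsAffine S]
    [LocallyOfFinitePresentation f] (F : X.Modules) (hq : Coh.IsQCoh F) (hF : CohB1.IsFP F) :
    ∃ (X₀ S₀ : Scheme.{u}) (f₀ : X₀ ⟶ S₀) (g : S ⟶ S₀) (g' : X ⟶ X₀), IsAffine X₀ ∧ IsAffine S₀ ∧
      IsPullback g' f f₀ g ∧ Algebra.FiniteType ℤ Γ(S₀, ⊤) ∧ LocallyOfFiniteType f₀ ∧
      ∃ F₀ : X₀.Modules, Coh.IsCoh F₀ ∧ Nonempty ((Scheme.Modules.pullback g').obj F₀ ≅ F) := by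
  obtain ⟨N, _, _, hN, ⟨e⟩⟩ := exists_tilde_of_affine F hq hF
  have h1 := appTop_finitePresentation f
  algebraize [f.appTop.hom]
  obtain ⟨A₀, B₀, M₀, _, _, _, _, _, _, _, _, _, _, g, hA, -, hpush, hB, -, hM, hg⟩ :=
    Groth.Agent.FlatA.Model.exists_model (R := Γ(S, ⊤)) (S := Γ(X, ⊤)) (M := N) ∅ ∅
  have : Algebra.FiniteType ℤ A₀ := A₀.fg_iff_finiteType.mp hA
  have hpo : IsPushout (CommRingCat.ofHom (algebraMap A₀ Γ(S, ⊤)))
      (CommRingCat.ofHom (algebraMap A₀ B₀)) f.appTop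
      (CommRingCat.ofHom (algebraMap B₀ Γ(X, ⊤))) :=
    isPushout_of_isPushout (A := Γ(S, ⊤)) (B := Γ(X, ⊤)) (A₀ := A₀) (B₀ := B₀)
  refine ⟨Spec (CommRingCat.of B₀), Spec (CommRingCat.of A₀),
    Spec.map (CommRingCat.ofHom (algebraMap A₀ B₀)), _, _, inferInstance, inferInstance,
    isPullback_of_isPushout f A₀ B₀ _ _ hpo, finiteType_Γ A₀, ?_,
    tilde (R := CommRingCat.of B₀) (ModuleCat.of B₀ M₀), ?_, exists_iso F N e B₀ M₀ g hg⟩
  · rw [HasRingHomProperty.Spec_iff (P := @LocallyOfFiniteType), CommRingCat.hom_ofHom,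
      RingHom.finiteType_algebraMap]
    infer_instance
  · have : Module.Finite (CommRingCat.of B₀) (ModuleCat.of B₀ M₀) :=
      inferInstanceAs (Module.Finite B₀ M₀)
    exact Groth.Agent.Ega1.ExtendAff2.isCoh_tilde _

theorem flat_of_isFlatOver {X S : Scheme.{u}} (f : X ⟶ S) [IsAffine X] [IsAffine S]
    (F : X.Modules) (hfl : FlatMod.IsFlatOver f F) (N : Type u) [AddCommGroup N]
    [Module Γ(X, ⊤) N] (e : (Scheme.Modules.pullback X.isoSpec.inv).obj F ≅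
        tilde (R := Γ(X, ⊤)) (ModuleCat.of Γ(X, ⊤) N)) [Algebra Γ(S, ⊤) Γ(X, ⊤)]
    (hf : algebraMap Γ(S, ⊤) Γ(X, ⊤) = f.appTop.hom) [Module Γ(S, ⊤) N]
    [IsScalarTower Γ(S, ⊤) Γ(X, ⊤) N] : Module.Flat Γ(S, ⊤) N := by
  have h2 : IsPullback X.isoSpec.inv (Spec.map f.appTop) f S.isoSpec.inv :=
    IsPullback.of_horiz_isIso ⟨(Scheme.isoSpec_inv_naturality f).symm⟩
  have h3 := (Groth.Agent.Fdesc.FlatBC.isFlatOver_iff h2 F).mp hfl
  have h4 := Groth.Agent.Models2.FlatIso.isFlatOver_of_iso _ e h3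
  rw [show f.appTop = CommRingCat.ofHom (algebraMap Γ(S, ⊤) Γ(X, ⊤)) by rw [hf]; rfl] at h4
  exact (Groth.Agent.S2394.result Γ(S, ⊤) Γ(X, ⊤) N).mp h4

theorem approx_flat_module {X S : Scheme.{u}} (f : X ⟶ S) [IsAffine X] [IsAffine S]
    [LocallyOfFinitePresentation f] (F : X.Modules) (hq : Coh.IsQCoh F) (hF : CohB1.IsFP F)
    (hfl : FlatMod.IsFlatOver f F) :
    ∃ (X₀ S₀ : Scheme.{u}) (f₀ : X₀ ⟶ S₀) (g : S ⟶ S₀) (g' : X ⟶ X₀), IsAffine X₀ ∧ IsAffine S₀ ∧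
      IsPullback g' f f₀ g ∧ Algebra.FiniteType ℤ Γ(S₀, ⊤) ∧ LocallyOfFiniteType f₀ ∧
      ∃ F₀ : X₀.Modules, Coh.IsCoh F₀ ∧ FlatMod.IsFlatOver f₀ F₀ ∧
        Nonempty ((Scheme.Modules.pullback g').obj F₀ ≅ F) := by
  obtain ⟨N, _, _, hN, ⟨e⟩⟩ := exists_tilde_of_affine F hq hF
  have h1 := appTop_finitePresentation f
  algebraize [f.appTop.hom]
  let : Module Γ(S, ⊤) N := Module.compHom N f.appTop.hom
  have : IsScalarTower Γ(S, ⊤) Γ(X, ⊤) N := IsScalarTower.of_algebraMap_smul fun _ _ ↦ rfl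
  have hflN : Module.Flat Γ(S, ⊤) N := flat_of_isFlatOver f F hfl N e rfl
  obtain ⟨A₀, B₀, M₀, _, _, _, _, _, _, _, _, _, _, g, hA, hpush, hB, hM, hg, hflat⟩ :=
    Groth.Agent.Ega43.FlatKer.exists_model_flat_global (R := Γ(S, ⊤)) (S := Γ(X, ⊤)) (M := N)
  have : Algebra.FiniteType ℤ A₀ := A₀.fg_iff_finiteType.mp hA
  have hpo : IsPushout (CommRingCat.ofHom (algebraMap A₀ Γ(S, ⊤)))
      (CommRingCat.ofHom (algebraMap A₀ B₀)) f.appTop
      (CommRingCat.ofHom (algebraMap B₀ Γ(X, ⊤))) :=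
    isPushout_of_isPushout (A := Γ(S, ⊤)) (B := Γ(X, ⊤)) (A₀ := A₀) (B₀ := B₀)
  refine ⟨Spec (CommRingCat.of B₀), Spec (CommRingCat.of A₀),
    Spec.map (CommRingCat.ofHom (algebraMap A₀ B₀)), _, _, inferInstance, inferInstance,
    isPullback_of_isPushout f A₀ B₀ _ _ hpo, finiteType_Γ A₀, ?_,
    tilde (R := CommRingCat.of B₀) (ModuleCat.of B₀ M₀), ?_, ?_, exists_iso F N e B₀ M₀ g hg⟩
  · rw [HasRingHomProperty.Spec_iff (P := @LocallyOfFiniteType), CommRingCat.hom_ofHom,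
      RingHom.finiteType_algebraMap]
    infer_instance
  · have : Module.Finite (CommRingCat.of B₀) (ModuleCat.of B₀ M₀) :=
      inferInstanceAs (Module.Finite B₀ M₀)
    exact Groth.Agent.Ega1.ExtendAff2.isCoh_tilde _
  · exact (Groth.Agent.S2394.result A₀ B₀ M₀).mpr hflat

end K258.Approx
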