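import Groth.Agent.Ega4C.FlatLocal
import Groth.Agent.Flat2D.FiberStalk

/-!
# Cohen-Macaulayness at a point of a composition of morphisms
-/

set_option autoImplicit false
universe u

open AlgebraicGeometry CategoryTheory Limits IsLocalRing LocCoh

namespace K258.CMComp

/-- For local homomorphisms `A → B → C` with `B → C` flat: if the closed fibres of `A → B` and `B → C` are
Cohen-Macaulay and the closed fibre of `A → C` is Noetherian, it is Cohen-Macaulay. -/
theorem isCM_fibre_comp {A B C : Type u} [CommRing A] [CommRing B] [CommRing C] [IsLocalRing A]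
    [IsLocalRing B] [IsLocalRing C] [Algebra A B] [Algebra B C] [IsLocalHom (algebraMap A B)]
    [IsLocalHom (algebraMap B C)] [Module.Flat B C]
    (hN : IsNoetherianRing (C ⧸ ((maximalIdeal A).map (algebraMap A B)).map (algebraMap B C)))
    (h1 : IsCohenMacaulayLocalRing (B ⧸ (maximalIdeal A).map (algebraMap A B)))
    (h2 : IsCohenMacaulayLocalRing (C ⧸ (maximalIdeal B).map (algebraMap B C))) :
    IsCohenMacaulayLocalRing (C ⧸ ((maximalIdeal A).map (algebraMap A B)).map (algebraMap B C)) := by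
  have hI : (maximalIdeal A).map (algebraMap A B) ≤ maximalIdeal B :=
    ((local_hom_TFAE (algebraMap A B)).out 0 2 rfl rfl).mp inferInstance
  have h3 := Groth.Agent.Ega4C.FlatLocal.nontrivial_quot B hI
  have h4 := Groth.Agent.Ega4C.FlatLocal.nontrivial_quot C
    (Groth.Agent.Ega4C.FlatLocal.map_le B C hI)
  have h5 := Groth.Agent.Ega4C.FlatLocal.isLocalHom_quot B C hI
  have h6 := Groth.Agent.Ega4C.FlatLocal.flat_quot B C ((maximalIdeal A).map (algebraMap A B))
  have h7 : IsLocalRing (B ⧸ (maximalIdeal A).map (algebraMap A B)) := inferInstance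
  have h8 : IsNoetherianRing (B ⧸ (maximalIdeal A).map (algebraMap A B)) := h1.toIsNoetherian
  rw [Groth.Agent.Ega4C.FlatLocal.isCM_iff (B ⧸ (maximalIdeal A).map (algebraMap A B))
    (C ⧸ ((maximalIdeal A).map (algebraMap A B)).map (algebraMap B C)),
    Groth.Agent.Ega4C.FlatLocal.isCM_congr
      (Groth.Agent.Ega4C.FlatLocal.fibRingQuotEquiv B C hI)]
  exact ⟨h1, h2⟩

theorem isCMAt_comp {X Y Z : Scheme.{u}} (f : X ⟶ Y) (g : Y ⟶ Z) (x : X)
    (hN : IsLocallyNoetherian ((f ≫ g).fiber (g (f x))))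
    (hf : MoreMor.IsCMAt f x) (hg : MoreMor.IsCMAt g (f x)) : MoreMor.IsCMAt (f ≫ g) x := by
  rw [Groth.Agent.Flat2D.FiberStalk.moreMor_isCMAt_iff] at hf hg ⊢
  obtain ⟨hf1, hf2⟩ := hf
  obtain ⟨hg1, hg2⟩ := hg
  have hc : ((f ≫ g).stalkMap x).hom = (f.stalkMap x).hom.comp (g.stalkMap (f x)).hom := by
    rw [Scheme.Hom.stalkMap_comp]
    rfl
  refine ⟨?_, ?_⟩
  · rw [hc]
    exact hg1.comp hf1
  · have hN' : IsNoetherianRing (X.presheaf.stalk x ⧸
        Ideal.map ((f ≫ g).stalkMap x).hom (maximalIdeal (Z.presheaf.stalk ((f ≫ g) x)))) := by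
      obtain ⟨e⟩ := Groth.Agent.Flat2D.FiberStalk.nonempty_asFiber_stalkEquiv' (f ≫ g) x
      have : IsLocallyNoetherian ((f ≫ g).fiber ((f ≫ g) x)) := hN
      exact isNoetherianRing_of_ringEquiv _ e.symm
    have e1 : Ideal.map ((f ≫ g).stalkMap x).hom (maximalIdeal (Z.presheaf.stalk ((f ≫ g) x))) =
        ((maximalIdeal (Z.presheaf.stalk (g (f x)))).map (g.stalkMap (f x)).hom).map
          (f.stalkMap x).hom :=
      (congrArg (fun φ : Z.presheaf.stalk (g (f x)) →+* X.presheaf.stalk x ↦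
        Ideal.map φ (maximalIdeal (Z.presheaf.stalk (g (f x))))) hc).trans
        (Ideal.map_map _ _).symm
    rw [e1] at hN' ⊢
    let := (g.stalkMap (f x)).hom.toAlgebra
    let := (f.stalkMap x).hom.toAlgebra
    have i1 : IsLocalHom (algebraMap (Z.presheaf.stalk (g (f x))) (Y.presheaf.stalk (f x))) :=
      inferInstanceAs (IsLocalHom (g.stalkMap (f x)).hom)
    have i2 : IsLocalHom (algebraMap (Y.presheaf.stalk (f x)) (X.presheaf.stalk x)) :=
      inferInstanceAs (IsLocalHom (f.stalkMap x).hom)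
    have i3 : Module.Flat (Y.presheaf.stalk (f x)) (X.presheaf.stalk x) := hf1
    exact isCM_fibre_comp (A := Z.presheaf.stalk (g (f x))) (B := Y.presheaf.stalk (f x))
      (C := X.presheaf.stalk x) hN' hg2 hf2

end K258.CMComp
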