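import Mathlib.RingTheory.DiscreteValuationRing.Basic
import Mathlib.LinearAlgebra.FreeModule.PID
import Mathlib.LinearAlgebra.Dimension.LinearMap
import Mathlib.RingTheory.OrderOfVanishing.Basic
import Mathlib.RingTheory.KrullDimension.PID

/-!
Finitely generated torsion-free modules over a discrete valuation ring and their truncations.
-/

set_option autoImplicit false

namespace K258.DvrAlg

variable {R : Type*} [CommRing R] [IsDomain R] [IsDiscreteValuationRing R] {ϖ : R}

/-- `ϖ`-torsion free modules over a DVR are torsion free. -/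
lemma isTorsionFree (hϖ : Irreducible ϖ) {M : Type*} [AddCommGroup M] [Module R M]
    (h : ∀ x : M, ϖ • x = 0 → x = 0) : Module.IsTorsionFree R M := by
  have hpow : ∀ (n : ℕ) (x : M), ϖ ^ n • x = 0 → x = 0 := by
    intro n
    induction n with
    | zero => intro x hx; simpa using hx
    | succ n ih =>
      intro x hx
      rw [pow_succ, mul_smul] at hx
      exact h x (ih _ hx)
  refine .of_smul_eq_zero fun r x hrx => ?_
  by_cases hr : r = 0
  · exact Or.inl hr
  · right
    obtain ⟨n, u, rfl⟩ := IsDiscreteValuationRing.eq_unit_mul_pow_irreducible hr hϖ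
    rw [mul_smul] at hrx
    refine hpow n x ?_
    have := congrArg (fun y => (↑u⁻¹ : R) • y) hrx
    simpa [smul_smul, ← mul_assoc] using this

/-- Over a DVR a module finitely generated and killed by a power of the uniformizer is
artinian. -/
lemma isArtinian_quotient (hϖ : Irreducible ϖ) {Q : Type*} [AddCommGroup Q] [Module R Q]
    [Module.Finite R Q] (m : ℕ) (K : Submodule R Q) (hK : ∀ y : Q, ϖ ^ m • y ∈ K) :
    IsArtinian R (Q ⧸ K) := by
  let I : Ideal R := Ideal.span {ϖ ^ m}
  have hI : IsFiniteLength R (R ⧸ I) := isFiniteLength_quotient_span_singleton R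
    (mem_nonZeroDivisors_of_ne_zero (pow_ne_zero _ hϖ.ne_zero))
  have : IsArtinian R (R ⧸ I) := (isFiniteLength_iff_isNoetherian_isArtinian.mp hI).2
  obtain ⟨n, s, hs⟩ := Module.Finite.exists_fin (R := R) (M := Q)
  -- the map `(R/I)^n → Q/K`
  let g₀ : (i : Fin n) → (R ⧸ I) →ₗ[R] (Q ⧸ K) := fun i =>
    Submodule.liftQ (I : Submodule R R) (LinearMap.toSpanSingleton R (Q ⧸ K) (K.mkQ (s i))) (by
      intro x hx
      obtain ⟨c, rfl⟩ := Ideal.mem_span_singleton'.mp hx
      rw [LinearMap.mem_ker, LinearMap.toSpanSingleton_apply, mul_smul, ← map_smul]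
      have : K.mkQ (ϖ ^ m • s i) = 0 := by
        rw [Submodule.mkQ_apply, Submodule.Quotient.mk_eq_zero]; exact hK _
      rw [this, smul_zero])
  let g : (Fin n → R ⧸ I) →ₗ[R] (Q ⧸ K) := LinearMap.lsum R (fun _ => R ⧸ I) R g₀
  refine isArtinian_of_surjective _ g ?_
  rw [← LinearMap.range_eq_top, eq_top_iff]
  have h1 : (⊤ : Submodule R (Q ⧸ K)) = Submodule.map K.mkQ (Submodule.span R (Set.range s)) := by
    rw [hs, Submodule.map_top, Submodule.range_mkQ]
  rw [h1, Submodule.map_span, Submodule.span_le]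
  rintro _ ⟨_, ⟨i, rfl⟩, rfl⟩
  refine ⟨Pi.single i (Ideal.Quotient.mk I 1), ?_⟩
  simp only [g, LinearMap.lsum_piSingle]
  change (Submodule.liftQ (I : Submodule R R) _ _) (Submodule.Quotient.mk (1 : R)) = _
  rw [Submodule.liftQ_apply, LinearMap.toSpanSingleton_apply, one_smul]

/-- The comparison of truncations: `Q ↪ P` torsion-free of finite type over a DVR, `a : P → N`,
`b : Q → N` with kernels `ϖᵐ P` and `ϖᵐ Q`; if `im a ⊆ im b` then `im b ⊆ im a`. -/
theorem range_le (hϖ : Irreducible ϖ) {P Q N : Type*} [AddCommGroup P] [Module R P]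
    [Module.Finite R P] [AddCommGroup Q] [Module R Q] [Module.Finite R Q] [AddCommGroup N]
    [Module R N] (hP : ∀ x : P, ϖ • x = 0 → x = 0) (hQ : ∀ x : Q, ϖ • x = 0 → x = 0)
    (j : Q →ₗ[R] P) (hj : Function.Injective j) (m : ℕ)
    (a : P →ₗ[R] N) (b : Q →ₗ[R] N)
    (ha : ∀ x, a x = 0 → ∃ y, x = ϖ ^ m • y) (ha' : ∀ y, a (ϖ ^ m • y) = 0)
    (hb : ∀ x, b x = 0 → ∃ y, x = ϖ ^ m • y) (hb' : ∀ y, b (ϖ ^ m • y) = 0)
    (hab : LinearMap.range a ≤ LinearMap.range b) :
    LinearMap.range b ≤ LinearMap.range a := by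
  have := isTorsionFree hϖ hP
  have := isTorsionFree hϖ hQ
  -- split injection `i : Q → P` with retraction `ρ`
  have hle : Module.finrank R Q ≤ Module.finrank R P :=
    LinearMap.finrank_le_finrank_of_injective hj
  let bP := Module.finBasis R P
  let bQ := Module.finBasis R Q
  let i : Q →ₗ[R] P := bQ.constr R (fun k => bP (Fin.castLE hle k))
  let ρ : P →ₗ[R] Q := bP.constr R (fun k => if h : (k : ℕ) < Module.finrank R Q then
    bQ ⟨k, h⟩ else 0)
  have hρi : ∀ x, ρ (i x) = x := by
    intro x
    have : ρ ∘ₗ i = LinearMap.id := by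
      refine bQ.ext fun k => ?_
      rw [LinearMap.comp_apply, Module.Basis.constr_basis, Module.Basis.constr_basis,
        dif_pos (by simp), LinearMap.id_apply]
      rfl
    exact LinearMap.congr_fun this x
  let A := LinearMap.ker a
  let B := LinearMap.ker b
  have hBA : B ≤ A.comap i := by
    intro x hx
    obtain ⟨y, rfl⟩ := hb x hx
    rw [Submodule.mem_comap, map_smul]
    exact ha' _
  let g : (Q ⧸ B) →ₗ[R] (P ⧸ A) := Submodule.mapQ B A i hBA
  have hg : Function.Injective g := by
    rw [← LinearMap.ker_eq_bot, LinearMap.ker_eq_bot']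
    intro x hx
    obtain ⟨x, rfl⟩ := Submodule.Quotient.mk_surjective _ x
    rw [Submodule.mapQ_apply, Submodule.Quotient.mk_eq_zero] at hx
    obtain ⟨z, hz⟩ := ha _ hx
    rw [Submodule.Quotient.mk_eq_zero]
    have : x = ϖ ^ m • ρ z := by rw [← map_smul, ← hz, hρi]
    rw [this]
    exact hb' _
  -- the endomorphism of `range b`
  let e : (LinearMap.range b) →ₗ[R] (LinearMap.range b) :=
    Submodule.inclusion hab ∘ₗ (LinearMap.quotKerEquivRange a).toLinearMap ∘ₗ g ∘ₗ
      (LinearMap.quotKerEquivRange b).symm.toLinearMap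
  have he : Function.Injective e := by
    intro x y hxy
    simp only [e, LinearMap.comp_apply, LinearEquiv.coe_coe] at hxy
    exact (LinearMap.quotKerEquivRange b).symm.injective
      (hg ((LinearMap.quotKerEquivRange a).injective (Submodule.inclusion_injective hab hxy)))
  have : IsArtinian R (Q ⧸ B) := isArtinian_quotient hϖ m B hb'
  have : IsArtinian R (LinearMap.range b) :=
    isArtinian_of_linearEquiv (LinearMap.quotKerEquivRange b)
  have hs := IsArtinian.surjective_of_injective_endomorphism e he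
  intro x hx
  obtain ⟨y, hy⟩ := hs ⟨x, hx⟩
  have : x = ((e y : LinearMap.range b) : N) := by rw [hy]
  rw [this]
  simp only [e, LinearMap.comp_apply, LinearEquiv.coe_coe, Submodule.coe_inclusion]
  exact Subtype.coe_prop _

end K258.DvrAlg
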