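import Groth.Agent.FlatMor.K258.DvrQuot
import Groth.Agent.FlatMor.K258.DvrAlg
import Groth.Agent.CohqB.FinTheoryInst
import Groth.Agent.CohqB.AllFinAffine
import Groth.Agent.S0058

/-!
Lifting of global sections of truncations for proper schemes over a discrete valuation ring.
-/

set_option autoImplicit false
universe u

open CategoryTheory CategoryTheory.Limits AlgebraicGeometry Opposite

namespace K258.DvrLift

open Groth.Agent.FormalB.ModPow Groth.Agent.FormalB.KQuot Groth.Agent.FormalB.TrKQuot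
open Groth.Agent.Sga67.Sec Groth.Agent.Sga67.LocBasis
open Groth.Agent.Sga2lef.H96.ModSysFormal (sc)
open K258.DvrQuot

section General

variable {A : Type u} [CommRing A] {X : Scheme.{u}} [X.Over (Spec (CommRingCat.of A))]

theorem appS_π_LE (J : Ideal A) {m n : ℕ} (h : m ≤ n) (M : X.Modules) (U : X.Opens)
    (s : Sec M U) :
    appS (Formal2.modPowLE J h M) U (appS (Formal.modPowπ J n M) U s) =
      appS (Formal.modPowπ J m M) U s := by
  rw [← appS_comp, Formal2.modPowπ_modPowLE]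

@[reassoc]
theorem modPowMap_LE (J : Ideal A) {m n : ℕ} (h : m ≤ n) {M N : X.Modules} (φ : M ⟶ N) :
    modPowMap J n φ ≫ Formal2.modPowLE J h N = Formal2.modPowLE J h M ≫ modPowMap J m φ := by
  rw [← cancel_epi (Formal.modPowπ J n M), modPowπ_modPowMap_assoc, Formal2.modPowπ_modPowLE,
    ← Category.assoc, Formal2.modPowπ_modPowLE, modPowπ_modPowMap]

theorem isModPow_LE (J : Ideal A) {m n : ℕ} (h : m ≤ n) (M : X.Modules) :
    IsModPow (J ^ m) (Formal2.modPowLE J h M) := by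
  have := isModPow_modPowπ J m M
  rw [← Formal2.modPowπ_modPowLE J h] at this
  exact this.of_comp

theorem modPowMap_zero (J : Ideal A) (n : ℕ) (M N : X.Modules) :
    modPowMap J n (0 : M ⟶ N) = 0 := by
  rw [← cancel_epi (Formal.modPowπ J n M), modPowπ_modPowMap, zero_comp, comp_zero]

theorem modPowMap_add (J : Ideal A) (n : ℕ) {M N : X.Modules} (φ ψ : M ⟶ N) :
    modPowMap J n (φ + ψ) = modPowMap J n φ + modPowMap J n ψ := by
  rw [← cancel_epi (Formal.modPowπ J n M), modPowπ_modPowMap, Preadditive.add_comp,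
    Preadditive.comp_add, modPowπ_modPowMap, modPowπ_modPowMap]

theorem modPowMap_sum (J : Ideal A) (n : ℕ) {M N : X.Modules} {κ : Type*} (s : Finset κ)
    (φ : κ → (M ⟶ N)) : modPowMap J n (∑ i ∈ s, φ i) = ∑ i ∈ s, modPowMap J n (φ i) := by
  classical
  induction s using Finset.induction_on with
  | empty => simp [modPowMap_zero]
  | insert i s hi ih => rw [Finset.sum_insert hi, Finset.sum_insert hi, modPowMap_add, ih]

/-- Mittag-Leffler for global sections, with constant `c`. -/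
def ML (J : Ideal A) (M : X.Modules) (c : ℕ) : Prop :=
  ∀ (n k : ℕ) (h : n ≤ k), n + c ≤ k → ∀ t : Sec (Formal.modPow J (k + 1) M) ⊤,
    ∃ s : Sec M ⊤, appS (Formal.modPowπ J (n + 1) M) ⊤ s =
      appS (Formal2.modPowLE J (Nat.succ_le_succ h) M) ⊤ t

theorem exists_ML [IsNoetherianRing A] (J : Ideal A) [IsProper (X ↘ Spec (CommRingCat.of A))]
    (M : X.Modules) (hM : Coh.IsCoh M) : ∃ c : ℕ, ML J M c := by
  obtain ⟨c, hc⟩ := Groth.Agent.S0058.result A J X M hM 0
  refine ⟨c, fun n k h hk t => ?_⟩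
  have h1 := hc n k h hk
  rw [Groth.Agent.CohqB.FormalLes.completion_map J M h] at h1
  let e : ∀ G : X.Modules, Coh.HH X G 0 ≃+ Γ(G, ⊤) := fun G =>
    Sheaf.H.equiv₀ (Coh.toAb G) (T := (⊤ : X.Opens)) Limits.isTerminalTop
  have he : ∀ {F G : X.Modules} (φ : F ⟶ G) (x : Coh.HH X F 0),
      e G (Sheaf.H.map ((SheafOfModules.toSheaf _).map φ) 0 x) = φ.app ⊤ (e F x) := fun {F G} φ x =>
    (Sheaf.H.equiv₀_naturality (T := (⊤ : X.Opens)) Limits.isTerminalTop
      ((SheafOfModules.toSheaf _).map φ) x).symm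
  have h2 : Sheaf.H.map ((SheafOfModules.toSheaf X.ringCatSheaf).map
      (Formal2.modPowLE J (Nat.succ_le_succ h) M)) 0 ((e _).symm t) ∈
      Set.range (Formal.toHHmodPow J M 0 n) := by
    rw [← h1]
    exact ⟨_, rfl⟩
  obtain ⟨x, hx⟩ := h2
  refine ⟨e M x, ?_⟩
  have h3 := he (Formal2.modPowLE J (Nat.succ_le_succ h) M) ((e _).symm t)
  have h4 : e _ ((e (Formal.modPow J (k + 1) M)).symm t) = t := AddEquiv.apply_symm_apply _ _
  have h5 := h3.trans (congrArg
    ((Formal2.modPowLE J (Nat.succ_le_succ h) M).app (⊤ : X.Opens)) h4)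
  refine Eq.trans ?_ h5
  rw [← hx]
  exact (he (Formal.modPowπ J (n + 1) M) x).symm

/-- The Mittag-Leffler constant is inherited by finite sums. -/
theorem ML.of_sum {J : Ideal A} {M N : X.Modules} {c : ℕ} (h : ML J M c) {κ : Type*} [Fintype κ]
    (i : κ → (M ⟶ N)) (p : κ → (N ⟶ M)) (hip : ∑ j, p j ≫ i j = 𝟙 N) : ML J N c := by
  intro n k hnk hk t
  choose s hs using fun j => h n k hnk hk (appS (modPowMap J (k + 1) (p j)) ⊤ t)
  refine ⟨∑ j, appS (i j) ⊤ (s j), ?_⟩
  have h1 : ∀ j, appS (Formal.modPowπ J (n + 1) N) ⊤ (appS (i j) ⊤ (s j)) =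
      appS (Formal2.modPowLE J (Nat.succ_le_succ hnk) N) ⊤
        (appS (modPowMap J (k + 1) (p j ≫ i j)) ⊤ t) := by
    intro j
    rw [← appS_comp, ← modPowπ_modPowMap, appS_comp, hs j, ← appS_comp, ← appS_comp, ← appS_comp,
      modPowMap_comp, Category.assoc, modPowMap_LE]
  rw [map_sum, Finset.sum_congr rfl fun j _ => h1 j, ← map_sum, ← appS_sum, ← modPowMap_sum, hip,
    modPowMap_id, appS_id]

/-- `E_N → E'_N` is again a quotient by the ideal sheaf. -/
theorem isKQuot_modPowMap (J : Ideal A) {K : X.IdealSheafData} {E E' : X.Modules} {p : E ⟶ E'}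
    (hp : IsKQuot K p) (N : ℕ) : IsKQuot K (modPowMap J N p) := by
  have := hp.epi
  have hepi : Epi (modPowMap J N p) := by
    have : Epi (Formal.modPowπ J N E ≫ modPowMap J N p) := by
      rw [modPowπ_modPowMap]; infer_instance
    exact epi_of_epi (Formal.modPowπ J N E) _
  refine ⟨hepi, killedByIdeal_of_epi (Formal.modPowπ J N E') hp.killed, fun {Z} φ hZ => ?_⟩
  obtain ⟨ψ, hψ⟩ := hp.desc (Formal.modPowπ J N E ≫ φ) hZ
  obtain ⟨χ, hχ⟩ := (isModPow_modPowπ J N E').desc ψ (fun a ha => by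
    rw [← cancel_epi p, ← smulMod_naturality_assoc, hψ, ← Category.assoc,
      (isModPow_modPowπ J N E).smul_comp a ha, zero_comp, comp_zero])
  refine ⟨χ, ?_⟩
  rw [← cancel_epi (Formal.modPowπ J N E), modPowπ_modPowMap_assoc, hχ, hψ]

/-- An isomorphism between truncations descends to the quotients by the ideal sheaf. -/
theorem exists_iso_modPow {J : Ideal A} {K : X.IdealSheafData} {E E' F F' : X.Modules}
    {p : E ⟶ E'} (hp : IsKQuot K p) {q : F ⟶ F'} (hq : IsKQuot K q) (N : ℕ)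
    (φ : Formal.modPow J N F ≅ Formal.modPow J N E) :
    ∃ φ' : Formal.modPow J N F' ≅ Formal.modPow J N E',
      modPowMap J N q ≫ φ'.hom = φ.hom ≫ modPowMap J N p := by
  obtain ⟨e, he, -⟩ := (isKQuot_modPowMap J hq N).exists_iso
    ((isKQuot_modPowMap J hp N).iso_comp φ.hom)
  exact ⟨e, he⟩

/-- An isomorphism between truncations induces isomorphisms on lower truncations. -/
theorem exists_iso_LE {J : Ideal A} {F E : X.Modules} {m N : ℕ} (h : m ≤ N)
    (φ : Formal.modPow J N F ≅ Formal.modPow J N E) :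
    ∃ φ' : Formal.modPow J m F ≅ Formal.modPow J m E,
      Formal2.modPowLE J h F ≫ φ'.hom = φ.hom ≫ Formal2.modPowLE J h E := by
  obtain ⟨e, he, -⟩ := (isModPow_LE J h F).exists_iso ((isModPow_LE J h E).iso_comp φ.hom)
  exact ⟨e, he⟩

end General

section Sections

variable (A : Type u) [CommRing A] {X : Scheme.{u}} [X.Over (Spec (CommRingCat.of A))]

/-- The `A`-module structure on global sections. -/
noncomputable abbrev modSec (M : X.Modules) : Module A (Sec M (⊤ : X.Opens)) :=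
  Module.compHom _ (sc A X ⊤)

/-- The `A`-linear map on global sections. -/
noncomputable def linS {M N : X.Modules} (φ : M ⟶ N) :
    letI := modSec A M
    letI := modSec A N
    Sec M (⊤ : X.Opens) →ₗ[A] Sec N (⊤ : X.Opens) :=
  letI := modSec A M
  letI := modSec A N
  { toFun := appS φ ⊤
    map_add' := map_add _
    map_smul' := fun a x => (appS φ ⊤).map_smul (sc A X ⊤ a) x }

theorem finite_sec [IsNoetherianRing A] [IsProper (X ↘ Spec (CommRingCat.of A))]
    (M : X.Modules) (hM : Coh.IsCoh M) :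
    letI := modSec A M
    Module.Finite A (Sec M (⊤ : X.Opens)) := by
  have h := Groth.Agent.CohqB.FinTheoryInst.allFin (X ↘ Spec (CommRingCat.of A)) M hM 0
  rw [Groth.Agent.CohqB.AllFinAffine.finH_zero_iff] at h
  have h2 : sc A X ⊤ = Groth.Agent.CohqB.AllFinAffine.toΓ (X ↘ Spec (CommRingCat.of A)) := by
    ext a
    exact Groth.Agent.CohqB.AllFinAffine.resTop_self _
  rw [modSec, h2]
  exact h

end Sections

/-- **Lifting of sections of truncations.** -/
theorem exists_lift_main {R : Type u} [CommRing R] [IsDomain R] [IsDiscreteValuationRing R]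
    {ϖ : R} (hϖ : Irreducible ϖ) {X : Scheme.{u}} [X.Over (Spec (CommRingCat.of R))]
    [IsProper (X ↘ Spec (CommRingCat.of R))] {K : X.IdealSheafData} {E E' F F' : X.Modules}
    {p : E ⟶ E'} {q : F ⟶ F'} (hp : IsKQuot K p) (hq : IsKQuot K q)
    [Mono (Formal.smulMod R E' ϖ)] [Mono (Formal.smulMod R F' ϖ)]
    (hE' : Coh.IsCoh E') (hF' : Coh.IsCoh F') (a : ℕ)
    (hk : ∀ (U : X.Opens) (s : Sec E U), appS p U s = 0 → sc R X U (ϖ ^ a) • s = 0)
    (j : F' ⟶ E') (hj : Function.Injective (appS j ⊤)) (c : ℕ)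
    (hc : ML (Ideal.span {ϖ}) F' c) (n : ℕ) (han : a ≤ n + 1) (k : ℕ) (hnk : n ≤ k)
    (hck : n + c ≤ k)
    (φ : Formal.modPow (Ideal.span {ϖ}) (k + 1) F ≅ Formal.modPow (Ideal.span {ϖ}) (k + 1) E)
    (s : Sec (Formal.modPow (Ideal.span {ϖ}) (k + 1) E) ⊤) :
    ∃ z : Sec E ⊤, appS (Formal.modPowπ (Ideal.span {ϖ}) (n + 1) E) ⊤ z =
      appS (Formal2.modPowLE (Ideal.span {ϖ}) (Nat.succ_le_succ hnk) E) ⊤ s := by
  have := hp.epi
  obtain ⟨φ', hφ'⟩ := exists_iso_modPow hp hq (k + 1) φ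
  obtain ⟨ψ, hψ⟩ := exists_iso_LE (Nat.succ_le_succ hnk) φ'
  let i1 := modSec R E'
  let i2 := modSec R F'
  let i3 := modSec R (Formal.modPow (Ideal.span {ϖ}) (n + 1) E')
  have f1 : Module.Finite R (Sec E' (⊤ : X.Opens)) := finite_sec R E' hE'
  have f2 : Module.Finite R (Sec F' (⊤ : X.Opens)) := finite_sec R F' hF'
  let la : Sec E' (⊤ : X.Opens) →ₗ[R] Sec (Formal.modPow (Ideal.span {ϖ}) (n + 1) E') (⊤ : X.Opens) :=
    linS R (Formal.modPowπ (Ideal.span {ϖ}) (n + 1) E')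
  let lb : Sec F' (⊤ : X.Opens) →ₗ[R] Sec (Formal.modPow (Ideal.span {ϖ}) (n + 1) E') (⊤ : X.Opens) :=
    linS R (Formal.modPowπ (Ideal.span {ϖ}) (n + 1) F' ≫ ψ.hom)
  -- elements in the image of level `k+1` sections lie in the range of `lb`
  have key : ∀ t : Sec (Formal.modPow (Ideal.span {ϖ}) (k + 1) E') ⊤, ∃ y : Sec F' ⊤,
      lb y = appS (Formal2.modPowLE (Ideal.span {ϖ}) (Nat.succ_le_succ hnk) E') ⊤ t := by
    intro t
    obtain ⟨y, hy⟩ := hc n k hnk hck (appS φ'.inv ⊤ t)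
    refine ⟨y, ?_⟩
    change appS (Formal.modPowπ (Ideal.span {ϖ}) (n + 1) F' ≫ ψ.hom) ⊤ y = _
    rw [appS_comp, hy, ← appS_comp, hψ, appS_comp, appS_inv_hom]
  have hab : LinearMap.range la ≤ LinearMap.range lb := by
    rintro _ ⟨x, rfl⟩
    obtain ⟨y, hy⟩ := key (appS (Formal.modPowπ (Ideal.span {ϖ}) (k + 1) E') ⊤ x)
    refine ⟨y, ?_⟩
    rw [hy, appS_π_LE]
    rfl
  have hba : LinearMap.range lb ≤ LinearMap.range la := by
    refine K258.DvrAlg.range_le hϖ (P := Sec E' (⊤ : X.Opens)) (Q := Sec F' (⊤ : X.Opens))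
      (fun x hx => smul_eq_zero_of_mono ϖ E' x hx) (fun x hx => smul_eq_zero_of_mono ϖ F' x hx)
      (linS R j) hj (n + 1) la lb (fun x hx => exists_smul ϖ (n + 1) E' x hx)
      (fun y => appS_modPowπ_smul ϖ (n + 1) E' y) (fun x hx => ?_) (fun y => ?_) hab
    · refine exists_smul ϖ (n + 1) F' x ?_
      have h1 : appS ψ.hom ⊤ (appS (Formal.modPowπ (Ideal.span {ϖ}) (n + 1) F') ⊤ x) = 0 := hx
      have h2 := congrArg (appS ψ.inv ⊤) h1
      rwa [appS_hom_inv, map_zero] at h2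
    · change appS ψ.hom ⊤ (appS (Formal.modPowπ (Ideal.span {ϖ}) (n + 1) F') ⊤ (sc R X ⊤ (ϖ ^ (n + 1)) • y)) = 0
      rw [appS_modPowπ_smul, map_zero]
  obtain ⟨y, hy⟩ := key (appS (modPowMap (Ideal.span {ϖ}) (k + 1) p) ⊤ s)
  obtain ⟨x, hx⟩ := hba ⟨y, rfl⟩
  rw [hy] at hx
  obtain ⟨z, -, hz⟩ := exists_lift_sec ϖ p a hk (n + 1) han x
    (appS (Formal2.modPowLE (Ideal.span {ϖ}) (Nat.succ_le_succ hnk) E) ⊤ s) (by
      refine hx.trans ?_
      rw [← appS_comp, ← appS_comp, modPowMap_LE])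
  exact ⟨z, hz⟩

end K258.DvrLift
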