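import Groth.Agent.FlatMor.K258.DvrTor
import Groth.Agent.FlatMor.K258.DvrLift
import Groth.Agent.S4341
import Groth.Agent.PerfA.CohSerre
import Groth.Agent.Models.DVRGeneric
import Groth.Agent.Sga2lef.H96.LevelFree
import Groth.Agent.CohqB.AlgNak
import Groth.Agent.CohqB.LocalQC
import Groth.Agent.FormalA.Support
import Groth.Agent.Krr.H478.EpiIso
import Groth.Agent.Krr.H487.KerRank
import Groth.Agent.Krr.H495.Rank
import Groth.Agent.Grass.K652.LfRank
import Groth.Agent.ParaF.K588.ThickPush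
import Mathlib.AlgebraicGeometry.Geometrically.Connected

/-!
A finite locally free module on a scheme proper over a discrete valuation ring, free on the generic
fibre and on a sufficiently thick truncation, is free.
-/

set_option autoImplicit false
universe u

open CategoryTheory CategoryTheory.Limits AlgebraicGeometry Opposite

namespace K258.DvrMain

open Groth.Agent.FormalB.ModPow Groth.Agent.FormalB.KQuot Groth.Agent.FormalB.TrKQuot
open Groth.Agent.Sga67.Sec Groth.Agent.Sga67.LocBasis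
open Groth.Agent.Sga2lef.H96.ModSysFormal (sc)
open K258.DvrQuot K258.DvrLift K258.DvrTor

/-- A proper scheme over a local domain with connected fibres is connected. -/
theorem connectedSpace {R : Type u} [CommRing R] [IsDomain R] {X : Scheme.{u}}
    (f : X ⟶ Spec (CommRingCat.of R)) [UniversallyClosed f] [GeometricallyConnected f] :
    ConnectedSpace X := by
  have hs : Function.Surjective f := f.surjective
  have hq : Topology.IsQuotientMap f := (f.isClosedMap).isQuotientMap f.continuous hs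
  have h0 : ConnectedSpace (Spec (CommRingCat.of R)) :=
    inferInstanceAs (ConnectedSpace (PrimeSpectrum R))
  have h := hq.isCoinducing.isConnected_preimage_of_isClosed
    (fun t => f.isConnected_preimage_singleton t) isClosed_univ isConnected_univ
  rw [Set.preimage_univ] at h
  exact connectedSpace_iff_univ.mpr h

section ML

variable {A : Type u} [CommRing A] {X : Scheme.{u}} [X.Over (Spec (CommRingCat.of A))]

theorem ML_free {J : Ideal A} {K : X.IdealSheafData} {c : ℕ}
    (h : ML J (kq K (Coh.structureModule X)) c) (r : ℕ) : ML J (kq K (FlatMod.freeMod X r)) c := by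
  let Φ : X.Modules ⥤ X.Modules :=
    Scheme.Modules.pullback K.subschemeι ⋙ Scheme.Modules.pushforward K.subschemeι
  have hΦ : Φ.Additive := inferInstance
  have key : ∑ j, Φ.map (freeProj X r j) ≫
      Φ.map (Sigma.ι (fun _ : Fin r => Coh.structureModule X) j) = 𝟙 (Φ.obj _) := by
    simp only [← Functor.map_comp]
    rw [← Functor.map_sum, sum_freeProj_ι]
    exact Φ.map_id _
  exact h.of_sum (κ := Fin r)
    (fun j => Φ.map (Sigma.ι (fun _ : Fin r => Coh.structureModule X) j))
    (fun j => Φ.map (freeProj X r j)) key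

end ML

section Generic

/-- Freeness after pullback along an open immersion gives a local basis over its image. -/
theorem exists_locBasis_of_openImmersion {X Y : Scheme.{u}} (g : Y ⟶ X) [IsOpenImmersion g]
    {E : X.Modules} {r : ℕ}
    (e : Nonempty ((Scheme.Modules.pullback g).obj E ≅ FlatMod.freeMod Y r)) (U : X.Opens)
    (hU : g.opensRange = U) : ∃ b : Fin r → Sec E U, IsLocBasis b := by
  subst hU
  obtain ⟨e⟩ := e
  refine nonempty_restrict_iso_iff.mp ⟨?_⟩
  have h1 : g.isoOpensRange.inv ≫ g = g.opensRange.ι := by simp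
  exact ((Scheme.Modules.restrictFunctorIsoPullback g.opensRange.ι).app E) ≪≫
    (Scheme.Modules.pullbackCongr h1.symm).app E ≪≫
    ((Scheme.Modules.pullbackComp g.isoOpensRange.inv g).symm.app E) ≪≫
    (Scheme.Modules.pullback g.isoOpensRange.inv).mapIso e ≪≫
    Groth.Agent.Sga2lef.H96.LevelFree.pullbackFreeMod _ r

variable {R : Type u} [CommRing R] [IsDomain R] [IsDiscreteValuationRing R] {ϖ : R}
  (hϖ : Irreducible ϖ) {X : Scheme.{u}} [X.Over (Spec (CommRingCat.of R))]

omit [IsDomain R] [IsDiscreteValuationRing R] in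
theorem dOpen_eq_preimage (x : R) :
    dOpen X x = (X ↘ Spec (CommRingCat.of R)) ⁻¹ᵁ (PrimeSpectrum.basicOpen x) := by
  have h1 := basicOpen_eq_of_affine (R := CommRingCat.of R) x
  have h2 := Scheme.preimage_basicOpen_top (X ↘ Spec (CommRingCat.of R))
    ((Scheme.ΓSpecIso (CommRingCat.of R)).inv x)
  rw [h1] at h2
  have h3 : sc R X ⊤ x = (X ↘ Spec (CommRingCat.of R)).appTop
      ((Scheme.ΓSpecIso (CommRingCat.of R)).inv x) :=
    Groth.Agent.CohqB.AllFinAffine.resTop_self _
  rw [dOpen, h3]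
  exact h2.symm

include hϖ in
theorem opensRange_generic
    [IsOpenImmersion (Spec.map (CommRingCat.ofHom (algebraMap R (FractionRing R))))] :
    (pullback.fst (X ↘ Spec (CommRingCat.of R))
      (Spec.map (CommRingCat.ofHom (algebraMap R (FractionRing R))))).opensRange = dOpen X ϖ := by
  rw [Scheme.Hom.opensRange_pullbackFst, dOpen_eq_preimage]
  congr 1
  have := Groth.Agent.Models.DVRGeneric.isLocalization_away R ϖ hϖ (FractionRing R)
  ext1
  exact PrimeSpectrum.localization_away_comap_range (FractionRing R) ϖ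

end Generic

section Aux

variable {X : Scheme.{u}}

theorem isFinLocFree_freeMod (r : ℕ) : FlatMod.IsFinLocFree (FlatMod.freeMod X r) :=
  (isFinLocFree_iff _).mpr fun _ => ⟨⊤, r, trivial, freeBasis X r, free_isLocBasis X r⟩

theorem isFinLocFreeOfRank_freeMod (r : ℕ) :
    FlatMod.IsFinLocFreeOfRank r (FlatMod.freeMod X r) :=
  (Groth.Agent.Krr.H487.KerRank.isFinLocFreeOfRank_iff _).mpr fun _ =>
    ⟨⊤, trivial, freeBasis X r, free_isLocBasis X r⟩

theorem isCoh_structureModule : Coh.IsCoh (Coh.structureModule X) :=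
  Groth.Agent.PerfA.CohSerre.isCoh_of_iso
    (coproductUniqueIso (fun _ : Fin 1 => Coh.structureModule X))
    (Groth.Agent.PerfA.CohSerre.isCoh_freeMod 1)

/-- The map from a free module given by global sections. -/
noncomputable def homFree {r : ℕ} {E : X.Modules} (s : Fin r → Sec E ⊤) :
    FlatMod.freeMod X r ⟶ E := Sigma.desc (fun i => homUnit E (s i))

theorem homFree_basis {r : ℕ} {E : X.Modules} (s : Fin r → Sec E ⊤) (i : Fin r) :
    appS (homFree s) ⊤ (freeBasis X r i) = s i := by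
  have h1 : Sigma.ι (fun _ : Fin r => Coh.structureModule X) i ≫ homFree s =
      homUnit E (s i) := by simp [homFree]
  rw [freeBasis, ← appS_comp, h1, homUnit_one, res_self]

theorem hom_free_ext {r : ℕ} {E : X.Modules} {f g : FlatMod.freeMod X r ⟶ E}
    (h : ∀ i, appS f ⊤ (freeBasis X r i) = appS g ⊤ (freeBasis X r i)) : f = g := by
  apply hom_ext
  intro U s
  obtain ⟨c, rfl⟩ := (free_isLocBasis X r U le_top).2 s
  rw [comb_apply, map_sum, map_sum]
  refine Finset.sum_congr rfl fun i _ => ?_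
  rw [map_smul, map_smul, appS_res, appS_res, h]

end Aux

/-- **Main theorem.** -/
theorem exists_pow_free {R : Type u} [CommRing R] [IsDomain R] [IsDiscreteValuationRing R]
    {ϖ : R} (hϖ : Irreducible ϖ) {X : Scheme.{u}} (f : X ⟶ Spec (CommRingCat.of R)) [IsProper f]
    [GeometricallyConnected f] : ∃ n : ℕ, ∀ (E : X.Modules), FlatMod.IsFinLocFree E →
      (∃ r : ℕ, Nonempty ((Scheme.Modules.pullback (pullback.fst f
        (Spec.map (CommRingCat.ofHom (algebraMap R (FractionRing R)))))).obj E ≅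
          FlatMod.freeMod _ r)) →
      (∃ r : ℕ, Nonempty ((Scheme.Modules.pullback (pullback.fst f
        (Spec.map (CommRingCat.ofHom (Ideal.Quotient.mk (Ideal.span {ϖ ^ n})))))).obj E ≅
          FlatMod.freeMod _ r)) → ∃ r : ℕ, Nonempty (E ≅ FlatMod.freeMod X r) := by
  let i0 : X.Over (Spec (CommRingCat.of R)) := ⟨f⟩
  have hprop : IsProper (X ↘ Spec (CommRingCat.of R)) := ‹IsProper f›
  have hXn : IsLocallyNoetherian X := LocallyOfFiniteType.isLocallyNoetherian f
  have hXc : CompactSpace X := QuasiCompact.compactSpace_of_compactSpace f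
  have hXs : QuasiSeparatedSpace X := quasiSeparatedSpace_of_quasiSeparated f
  have hconn : ConnectedSpace X := connectedSpace f
  obtain ⟨a, ha⟩ := exists_pow (X := X) ϖ
  obtain ⟨c, hc⟩ := exists_ML (Ideal.span {ϖ}) (kq (tor X ϖ) (Coh.structureModule X))
    (isCoh_kq (tor X ϖ) isCoh_structureModule)
  refine ⟨a + c + 1, ?_⟩
  rintro E hE ⟨r', hgen⟩ ⟨r, htr⟩
  have hEc : Coh.IsCoh E := Groth.Agent.PerfA.CohSerre.isCoh_of_isFinLocFree hE
  have hFc : ∀ r, Coh.IsCoh (FlatMod.freeMod X r) := fun r =>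
    Groth.Agent.PerfA.CohSerre.isCoh_of_isFinLocFree (isFinLocFree_freeMod r)
  -- ranks
  obtain ⟨ρ, hρ⟩ := Groth.Agent.Krr.H495.Rank.exists_rank_of_connected hE
  have hrank : ∀ (B : Type u) [CommRing B] [Nontrivial B] (g : R →+* B) (m : ℕ),
      Nonempty ((Scheme.Modules.pullback (pullback.fst f (Spec.map (CommRingCat.ofHom g)))).obj E ≅
        FlatMod.freeMod _ m) → m = ρ := by
    intro B _ _ g m hm
    obtain ⟨e⟩ := hm
    have h1 := K652.LfRank.pullback
      (pullback.fst f (Spec.map (CommRingCat.ofHom g))) hρ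
    have h2 := Groth.Agent.Krr.H487.KerRank.isFinLocFreeOfRank_of_iso e.symm
      (isFinLocFreeOfRank_freeMod m)
    have hne : Nonempty (pullback f (Spec.map (CommRingCat.ofHom g)) : Scheme.{u}) := by
      have h3 : Nonempty (Spec (CommRingCat.of B)) := inferInstanceAs (Nonempty (PrimeSpectrum B))
      obtain ⟨y⟩ := h3
      obtain ⟨z, -⟩ := (pullback.snd f (Spec.map (CommRingCat.ofHom g))).surjective y
      exact ⟨z⟩
    exact Groth.Agent.Krr.H487.KerRank.rank_unique h2 h1
  obtain rfl : r' = ρ := hrank _ _ _ hgen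
  have hnt : Nontrivial (R ⧸ Ideal.span {ϖ ^ (a + c + 1)}) := by
    rw [Ideal.Quotient.nontrivial_iff, Ne, Ideal.span_singleton_eq_top, isUnit_pow_succ_iff]
    exact hϖ.not_isUnit
  obtain rfl : r = r' := hrank _ _ _ htr
  clear hrank
  -- notation
  let F : X.Modules := FlatMod.freeMod X r
  have hq : IsKQuot (tor X ϖ) (kπ (tor X ϖ) F) := isKQuot_kπ (tor X ϖ) (hFc r).1
  have hp : IsKQuot (tor X ϖ) (kπ (tor X ϖ) E) := isKQuot_kπ (tor X ϖ) hEc.1
  have hmE : Mono (Formal.smulMod R (kq (tor X ϖ) E) ϖ) := mono_smulMod ϖ hp hEc.1 hE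
  have hmF : Mono (Formal.smulMod R (kq (tor X ϖ) F) ϖ) :=
    mono_smulMod ϖ hq (hFc r).1 (isFinLocFree_freeMod r)
  -- a basis over the generic fibre
  have hoi := Groth.Agent.Models.DVRGeneric.isOpenImmersion_generic R (FractionRing R)
  obtain ⟨θ, hθ⟩ := exists_locBasis_of_openImmersion (pullback.fst (X ↘ Spec (CommRingCat.of R))
    (Spec.map (CommRingCat.ofHom (algebraMap R (FractionRing R))))) hgen (dOpen X ϖ)
    (opensRange_generic hϖ)
  have hqc : Coh.IsQCoh E := hEc.1
  have hext : ∀ i, ∃ (N : ℕ) (s : Sec E ⊤), res E (le_top : dOpen X ϖ ≤ ⊤) s =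
      sc R X (dOpen X ϖ) (ϖ ^ N) • θ i := by
    intro i
    obtain ⟨N, -, s, hs⟩ := Groth.Agent.S4341.result X (sc R X ⊤ ϖ) E (θ i)
    refine ⟨N, s, hs.trans ?_⟩
    change (resO X (le_top : dOpen X ϖ ≤ ⊤) (sc R X ⊤ ϖ)) ^ N • θ i = _
    rw [resO_sc, map_pow]
  choose N s hs using hext
  have hα : ∀ i, res E (le_top : dOpen X ϖ ≤ ⊤) (appS (homFree s) ⊤ (freeBasis X r i)) =
      sc R X (dOpen X ϖ) (ϖ ^ N i) • θ i := fun i => by rw [homFree_basis, hs]
  obtain ⟨j, hj⟩ := hq.exists_map hp (homFree s)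
  have hjinj := injective_of_dOpen ϖ hp hq hEc.1 (hFc r).1 (free_isLocBasis X r) hθ (homFree s) j
    hj N hα
  -- the truncated isomorphism
  have htrunc : Nonempty (Formal.modPow (Ideal.span {ϖ}) (a + c + 1) F ≅
      Formal.modPow (Ideal.span {ϖ}) (a + c + 1) E) := by
    obtain ⟨e⟩ := htr
    let i := K588.ThickPush.cloι X (Ideal.span {ϖ ^ (a + c + 1)})
    obtain ⟨e₁, -, -⟩ := (isModPow_span ϖ (a + c + 1) F).exists_iso
      (K588.ThickPush.isModPow_unit (Ideal.span {ϖ ^ (a + c + 1)}) F (hFc r).1)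
    obtain ⟨e₂, -, -⟩ := (isModPow_span ϖ (a + c + 1) E).exists_iso
      (K588.ThickPush.isModPow_unit (Ideal.span {ϖ ^ (a + c + 1)}) E hEc.1)
    exact ⟨e₁ ≪≫ (Scheme.Modules.pushforward i).mapIso
      (Groth.Agent.Sga2lef.H96.LevelFree.pullbackFreeMod i r ≪≫ e.symm) ≪≫ e₂.symm⟩
  obtain ⟨φ⟩ := htrunc
  -- lifting the truncated basis
  have hlift := fun i => exists_lift_main hϖ hp hq (isCoh_kq _ hEc) (isCoh_kq _ (hFc r)) a
    (smul_eq_zero_of_kπ ϖ ha hp hEc.1) j hjinj c (ML_free hc r) a (Nat.le_succ a) (a + c)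
    (Nat.le_add_right a c) le_rfl φ (appS φ.hom ⊤
      (appS (Formal.modPowπ (Ideal.span {ϖ}) (a + c + 1) F) ⊤ (freeBasis X r i)))
  choose z hz using hlift
  obtain ⟨ψ, hψ⟩ := exists_iso_LE (Nat.succ_le_succ (Nat.le_add_right a c)) φ
  let v : F ⟶ E := homFree z
  have hv : modPowMap (Ideal.span {ϖ}) (a + 1) v = ψ.hom := by
    rw [← cancel_epi (Formal.modPowπ (Ideal.span {ϖ}) (a + 1) F), modPowπ_modPowMap]
    refine hom_free_ext fun i => ?_
    rw [appS_comp, homFree_basis, hz, ← appS_comp, ← hψ, appS_comp, appS_comp, appS_π_LE]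
  have hiso : IsIso (modPowMap (Ideal.span {ϖ}) (a + 1) v) := by rw [hv]; infer_instance
  -- the cokernel vanishes
  have hzero : IsZero (Formal.modPow (Ideal.span {ϖ}) (a + 1) (cokernel v)) := by
    have h1 : modPowMap (Ideal.span {ϖ}) (a + 1) (cokernel.π v) = 0 := by
      rw [← cancel_epi (modPowMap (Ideal.span {ϖ}) (a + 1) v), ← modPowMap_comp,
        cokernel.condition, modPowMap_zero, comp_zero]
    have h2 : Formal.modPowπ (Ideal.span {ϖ}) (a + 1) (cokernel v) = 0 := by
      rw [← cancel_epi (cokernel.π v), ← modPowπ_modPowMap, h1, comp_zero, comp_zero]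
    rw [IsZero.iff_id_eq_zero, ← cancel_epi (Formal.modPowπ (Ideal.span {ϖ}) (a + 1) (cokernel v)),
      h2, zero_comp, zero_comp]
  have hcok : IsZero (cokernel v) := by
    have hft : CohB1.IsFT (cokernel v) :=
      Groth.Agent.CohqB.LocalQC.isFT_of_epi (cokernel.π v) hEc.2
    refine Groth.Agent.CohqB.AlgNak.isZero_of_isModPow ?_
      (isModPow_modPowπ (Ideal.span {ϖ}) (a + 1) (cokernel v)) hft
      ⟨Groth.Agent.FormalA.Support.isClosed_support _ hft, inferInstance⟩ hzero
    rw [IsLocalRing.jacobson_eq_maximalIdeal ⊥ bot_ne_top]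
    refine (Ideal.pow_le_self (Nat.succ_ne_zero a)).trans ?_
    rw [Ideal.span_singleton_le_iff_mem]
    exact hϖ.not_isUnit
  have hepi : Epi v := Preadditive.epi_of_isZero_cokernel v hcok
  have := Groth.Agent.Krr.H478.EpiIso.isIso_of_epi v (isFinLocFreeOfRank_freeMod r) hρ
  exact ⟨r, ⟨(asIso v).symm⟩⟩

end K258.DvrMain
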