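import Groth.Agent.FormalB.TrKQuot
import Groth.Agent.Sga67.LocBasis
import Groth.Agent.Sga2lef.H96.ModSysFormal

/-!
The quotients `M / x M` for a principal ideal, and lifting global sections along
`E → E' ×_{E'/ϖᵐ} E/ϖᵐ`.
-/

set_option autoImplicit false
universe u

open CategoryTheory CategoryTheory.Limits AlgebraicGeometry Opposite

namespace K258.DvrQuot

open Groth.Agent.FormalB.ModPow Groth.Agent.FormalB.KQuot Groth.Agent.FormalB.TrKQuot
open Groth.Agent.Sga67.Sec Groth.Agent.Sga67.LocBasis
open Groth.Agent.Sga2lef.H96.ModSysFormal (sc)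

variable {A : Type u} [CommRing A] {X : Scheme.{u}} [X.Over (Spec (CommRingCat.of A))]

theorem appS_smulMod (M : X.Modules) (a : A) (U : X.Opens) (m : Sec M U) :
    appS (Formal.smulMod A M a) U m = sc A X U a • m := rfl

theorem resO_sc {U V : X.Opens} (h : V ≤ U) (a : A) : resO X h (sc A X U a) = sc A X V a := by
  exact resO_resO (X := X) (le_top : U ≤ ⊤) h _

theorem smulMod_comp_eq_zero_of_span {x : A} {M N : X.Modules} (p : M ⟶ N)
    (h : Formal.smulMod A M x ≫ p = 0) : ∀ a ∈ Ideal.span {x}, Formal.smulMod A M a ≫ p = 0 := by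
  intro a ha
  obtain ⟨c, rfl⟩ := Ideal.mem_span_singleton'.mp ha
  rw [smulMod_mul, Category.assoc, smulMod_naturality p c, reassoc_of% h, zero_comp]

/-- `M --x--> M → M / x M` is exact. -/
theorem exact_of_isModPow {x : A} {M N : X.Modules} {p : M ⟶ N}
    (hp : IsModPow (Ideal.span {x}) p) :
    (ShortComplex.mk (Formal.smulMod A M x) p
      (hp.smul_comp x (Ideal.mem_span_singleton_self x))).Exact := by
  have := hp.epi
  refine ShortComplex.exact_of_g_is_cokernel _ (CokernelCofork.IsColimit.ofπ _ _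
    (fun k hk => (hp.desc k (smulMod_comp_eq_zero_of_span k hk)).choose)
    (fun k hk => (hp.desc k (smulMod_comp_eq_zero_of_span k hk)).choose_spec)
    (fun k hk m hm => ?_))
  rw [← cancel_epi p]
  exact hm.trans (hp.desc k (smulMod_comp_eq_zero_of_span k hk)).choose_spec.symm

theorem isModPow_span (x : A) (m : ℕ) (M : X.Modules) :
    IsModPow (Ideal.span {x ^ m}) (Formal.modPowπ (Ideal.span {x}) m M) := by
  have := isModPow_modPowπ (Ideal.span {x}) m M
  rwa [Ideal.span_singleton_pow] at this

/-- sections killed in `M / xᵐ M` are locally in `xᵐ M`. -/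
theorem exists_locally_smul (x : A) (m : ℕ) (M : X.Modules) {U : X.Opens} (s : Sec M U)
    (hs : appS (Formal.modPowπ (Ideal.span {x}) m M) U s = 0) (y : X) (hy : y ∈ U) :
    ∃ (V : X.Opens) (h : V ≤ U), y ∈ V ∧ ∃ t : Sec M V, sc A X V (x ^ m) • t = res M h s :=
  exists_locally_of_exact (exact_of_isModPow (isModPow_span x m M)) s hs y hy

theorem appS_modPowπ_smul (x : A) (m : ℕ) (M : X.Modules) {U : X.Opens} (s : Sec M U) :
    appS (Formal.modPowπ (Ideal.span {x}) m M) U (sc A X U (x ^ m) • s) = 0 := by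
  have h := (isModPow_span x m M).smul_comp _ (Ideal.mem_span_singleton_self _)
  have h2 := congrArg (fun f => appS f U s) h
  exact h2

theorem mono_smulMod_pow (x : A) {M : X.Modules} [Mono (Formal.smulMod A M x)] (m : ℕ) :
    Mono (Formal.smulMod A M (x ^ m)) := by
  induction m with
  | zero => rw [pow_zero, smulMod_one]; infer_instance
  | succ m ih => rw [pow_succ, smulMod_mul]; infer_instance

/-- If `x` is a nonzerodivisor on `M`, sections killed in `M / xᵐ M` are in `xᵐ M(U)`. -/
theorem exists_smul (x : A) (m : ℕ) (M : X.Modules) [Mono (Formal.smulMod A M x)] {U : X.Opens}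
    (s : Sec M U) (hs : appS (Formal.modPowπ (Ideal.span {x}) m M) U s = 0) :
    ∃ t : Sec M U, s = sc A X U (x ^ m) • t := by
  have := mono_smulMod_pow (M := M) x m
  obtain ⟨t, ht⟩ := exists_of_appS_eq_zero (exact_of_isModPow (isModPow_span x m M)) s hs
  exact ⟨t, ht.symm⟩

theorem smul_eq_zero_of_mono (x : A) (M : X.Modules) [Mono (Formal.smulMod A M x)] {U : X.Opens}
    (s : Sec M U) (hs : sc A X U x • s = 0) : s = 0 := by
  refine injective_of_mono (Formal.smulMod A M x) U ?_
  rw [map_zero]
  exact hs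

/-- The lifting lemma for `E → E' ×_{E'/xᵐ} E/xᵐ`: `p : E → E'` epi, `x` regular on `E'`,
`ker p` killed by `xᵃ`, `a ≤ m`. -/
theorem exists_lift_sec (x : A) {E E' : X.Modules} (p : E ⟶ E') [Epi p]
    [Mono (Formal.smulMod A E' x)] (a : ℕ)
    (hk : ∀ (U : X.Opens) (s : Sec E U), appS p U s = 0 → sc A X U (x ^ a) • s = 0)
    (m : ℕ) (ham : a ≤ m) {U : X.Opens} (s : Sec E' U)
    (t : Sec (Formal.modPow (Ideal.span {x}) m E) U)
    (hst : appS (Formal.modPowπ (Ideal.span {x}) m E') U s =
      appS (modPowMap (Ideal.span {x}) m p) U t) :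
    ∃ z : Sec E U, appS p U z = s ∧ appS (Formal.modPowπ (Ideal.span {x}) m E) U z = t := by
  have hmono := mono_smulMod_pow (M := E') x m
  let f : E ⟶ E' ⊞ Formal.modPow (Ideal.span {x}) m E :=
    biprod.lift p (Formal.modPowπ (Ideal.span {x}) m E)
  let g : E' ⊞ Formal.modPow (Ideal.span {x}) m E ⟶ Formal.modPow (Ideal.span {x}) m E' :=
    biprod.desc (Formal.modPowπ (Ideal.span {x}) m E') (-modPowMap (Ideal.span {x}) m p)
  have hfg : f ≫ g = 0 := by
    simp only [f, g, biprod.lift_desc, Preadditive.comp_neg, modPowπ_modPowMap, add_neg_cancel]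
  -- monomorphism
  have key : ∀ (V : X.Opens) (e : Sec E V), appS p V e = 0 →
      appS (Formal.modPowπ (Ideal.span {x}) m E) V e = 0 → e = 0 := by
    intro V e h1 h2
    refine eq_of_locally E fun y hy => ?_
    obtain ⟨W, hW, hyW, e₁, he₁⟩ := exists_locally_smul x m E e h2 y hy
    refine ⟨W, hW, hyW, ?_⟩
    rw [map_zero, ← he₁]
    have h3 : appS (Formal.smulMod A E' (x ^ m)) W (appS p W e₁) = 0 := by
      rw [appS_smulMod, ← map_smul, he₁, appS_res, h1, map_zero]
    have h4 : appS p W e₁ = 0 := injective_of_mono (Formal.smulMod A E' (x ^ m)) W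
      (h3.trans (map_zero _).symm)
    have h5 := hk W e₁ h4
    have h6 : x ^ m = x ^ (m - a) * x ^ a := by rw [← pow_add]; congr 1; omega
    rw [h6, map_mul, mul_smul, h5, smul_zero]
  have hmf : Mono f := by
    refine mono_of_locally_injective f fun y V hy => ⟨V, le_rfl, hy, fun e he => ?_⟩
    refine key V e ?_ ?_
    · have h1 : f ≫ biprod.fst = p := biprod.lift_fst _ _
      rw [← h1, appS_comp, he, map_zero]
    · have h1 : f ≫ biprod.snd = Formal.modPowπ (Ideal.span {x}) m E := biprod.lift_snd _ _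
      rw [← h1, appS_comp, he, map_zero]
  have hex : (ShortComplex.mk f g hfg).Exact := by
    refine exact_of_locally fun V w hw y hy => ?_
    let w₁ : Sec E' V := appS (biprod.fst : E' ⊞ Formal.modPow (Ideal.span {x}) m E ⟶ E') V w
    let w₂ : Sec (Formal.modPow (Ideal.span {x}) m E) V :=
      appS (biprod.snd : E' ⊞ Formal.modPow (Ideal.span {x}) m E ⟶ _) V w
    have hw12 : appS (Formal.modPowπ (Ideal.span {x}) m E') V w₁ =
        appS (modPowMap (Ideal.span {x}) m p) V w₂ := by
      have h1 : g = biprod.fst ≫ Formal.modPowπ (Ideal.span {x}) m E' -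
          biprod.snd ≫ modPowMap (Ideal.span {x}) m p := by
        apply biprod.hom_ext'
        · simp [g]
        · simp [g]
      have h2 : appS g V w = 0 := hw
      rw [h1, appS_sub, appS_comp, appS_comp, sub_eq_zero] at h2
      exact h2
    obtain ⟨W₁, hW₁, hy₁, e, he⟩ := locally_surjective_of_epi p w₁ y hy
    obtain ⟨W₂, hW₂, hy₂, e', he'⟩ := locally_surjective_of_epi
      (Formal.modPowπ (Ideal.span {x}) m E)
      (appS (Formal.modPowπ (Ideal.span {x}) m E) W₁ e - res _ hW₁ w₂) y hy₁
    have h3 : appS (Formal.modPowπ (Ideal.span {x}) m E') W₂ (appS p W₂ e') = 0 := by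
      have h4 : appS (Formal.modPowπ (Ideal.span {x}) m E') W₂ (appS p W₂ e') =
          appS (modPowMap (Ideal.span {x}) m p) W₂
            (appS (Formal.modPowπ (Ideal.span {x}) m E) W₂ e') := by
        rw [← appS_comp, ← appS_comp, modPowπ_modPowMap]
      rw [h4, he', appS_res, map_sub, appS_res, ← hw12, ← appS_comp, modPowπ_modPowMap,
        appS_comp, he, appS_res, sub_self, map_zero]
    obtain ⟨W₃, hW₃, hy₃, e₃, he₃⟩ := exists_locally_smul x m E' (appS p W₂ e') h3 y hy₂
    obtain ⟨W, hW, hyW, e₄, he₄⟩ := locally_surjective_of_epi p e₃ y hy₃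
    refine ⟨W, hW.trans (hW₃.trans (hW₂.trans hW₁)), hyW,
      res E (hW.trans (hW₃.trans hW₂)) e - (res E (hW.trans hW₃) e' - sc A X W (x ^ m) • e₄), ?_⟩
    have hp4 : appS p W (sc A X W (x ^ m) • e₄) = res E' (hW.trans hW₃) (appS p W₂ e') := by
      rw [map_smul, he₄, ← resO_sc hW, ← res_smul, he₃, res_res]
    -- compare the two components
    have hinj : ∀ (a b : Sec (E' ⊞ Formal.modPow (Ideal.span {x}) m E) W),
        appS (biprod.fst : E' ⊞ Formal.modPow (Ideal.span {x}) m E ⟶ E') W a =
          appS (biprod.fst : E' ⊞ Formal.modPow (Ideal.span {x}) m E ⟶ E') W b →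
        appS (biprod.snd : E' ⊞ Formal.modPow (Ideal.span {x}) m E ⟶ _) W a =
          appS (biprod.snd : E' ⊞ Formal.modPow (Ideal.span {x}) m E ⟶ _) W b → a = b := by
      intro a b h1 h2
      have h := biprod.total (X := E') (Y := Formal.modPow (Ideal.span {x}) m E)
      have ha := congrArg (fun k => appS k W a) h
      have hb := congrArg (fun k => appS k W b) h
      simp only [appS_add, appS_comp, appS_id] at ha hb
      rw [← ha, ← hb, h1, h2]
    apply hinj
    · change appS biprod.fst W (appS f W _) = _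
      rw [← appS_comp, appS_res]
      have h1 : f ≫ biprod.fst = p := biprod.lift_fst _ _
      rw [h1, map_sub, map_sub, hp4, appS_res, appS_res, sub_self, sub_zero, he, res_res]
    · change appS biprod.snd W (appS f W _) = _
      rw [← appS_comp, appS_res]
      have h1 : f ≫ biprod.snd = Formal.modPowπ (Ideal.span {x}) m E := biprod.lift_snd _ _
      rw [h1, map_sub, map_sub, appS_modPowπ_smul, sub_zero, appS_res, appS_res, he', map_sub,
        map_sub, res_res, res_res, res_res, sub_sub_cancel]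
  obtain ⟨z, hz⟩ := exists_of_appS_eq_zero hex (U := U)
    (appS (biprod.inl : E' ⟶ E' ⊞ Formal.modPow (Ideal.span {x}) m E) U s +
      appS (biprod.inr : _ ⟶ E' ⊞ Formal.modPow (Ideal.span {x}) m E) U t) (by
      change appS g U _ = 0
      rw [map_add, ← appS_comp, ← appS_comp]
      have h1 : biprod.inl ≫ g = Formal.modPowπ (Ideal.span {x}) m E' := biprod.inl_desc _ _
      have h2 : biprod.inr ≫ g = -modPowMap (Ideal.span {x}) m p := biprod.inr_desc _ _
      rw [h1, h2, appS_neg, hst, add_neg_cancel])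
  change appS f U z = _ at hz
  refine ⟨z, ?_, ?_⟩
  · have h1 : f ≫ biprod.fst = p := biprod.lift_fst _ _
    rw [← h1, appS_comp, hz, map_add, ← appS_comp, ← appS_comp, biprod.inl_fst, biprod.inr_fst,
      appS_id, appS_zero, add_zero]
  · have h1 : f ≫ biprod.snd = Formal.modPowπ (Ideal.span {x}) m E := biprod.lift_snd _ _
    rw [← h1, appS_comp, hz, map_add, ← appS_comp, ← appS_comp, biprod.inl_snd, biprod.inr_snd,
      appS_id, appS_zero, zero_add]

end K258.DvrQuot
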