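import Groth.Agent.FlatMor.K258.DvrQuot
import Groth.Agent.FormalB.TrKQuot

/-!
The ideal sheaf of `x`-power torsion functions, and the quotients of finite locally free modules by it.
-/

set_option autoImplicit false
universe u

open CategoryTheory CategoryTheory.Limits AlgebraicGeometry Opposite

namespace K258.DvrTor

open Groth.Agent.FormalB.ModPow Groth.Agent.FormalB.KQuot Groth.Agent.FormalB.TrKQuot
open Groth.Agent.Sga67.Sec Groth.Agent.Sga67.LocBasis
open Groth.Agent.Sga2lef.H96.ModSysFormal (sc)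
open K258.DvrQuot

variable {A : Type u} [CommRing A] (X : Scheme.{u}) [X.Over (Spec (CommRingCat.of A))]

/-- The open subscheme where `x` is invertible. -/
noncomputable def dOpen (x : A) : X.Opens := X.basicOpen (sc A X ⊤ x)

variable {X}

theorem dOpen_eq (U : X.Opens) (x : A) : U ⊓ dOpen X x = X.basicOpen (sc A X U x) := by
  rw [← resO_sc (le_top : U ≤ ⊤) x]
  exact (X.basicOpen_res (sc A X ⊤ x) (homOfLE (le_top : U ≤ ⊤)).op).symm

theorem isUnit_sc {U : X.Opens} (x : A) (h : U ≤ dOpen X x) : IsUnit (sc A X U x) := by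
  have h1 : IsUnit (resO X (le_top : dOpen X x ≤ ⊤) (sc A X ⊤ x)) :=
    RingedSpace.isUnit_res_basicOpen X.toRingedSpace (sc A X ⊤ x)
  rw [resO_sc] at h1
  rw [← resO_sc h]
  exact h1.map _

variable (X) in
/-- The ideal sheaf of `x`-power torsion functions. -/
noncomputable def tor (x : A) : X.IdealSheafData := (dOpen X x).ι.ker

theorem mem_tor_iff (x : A) (U : X.affineOpens) (c : Γ(X, U.1)) :
    c ∈ (tor X x).ideal U ↔ resO X (inf_le_left : U.1 ⊓ dOpen X x ≤ U.1) c = 0 := by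
  have : QuasiCompact (dOpen X x).ι := by
    have : IsAffineHom (dOpen X x).ι := inferInstanceAs (IsAffineHom (X.basicOpen (sc A X ⊤ x)).ι)
    infer_instance
  rw [tor, Scheme.Hom.ker_apply, RingHom.mem_ker, Scheme.Opens.ι_app]
  have key : ∀ (V : X.Opens) (hV : V = U.1 ⊓ dOpen X x) (hVU : V ≤ U.1),
      X.presheaf.map (homOfLE hVU).op c = 0 ↔
        resO X (inf_le_left : U.1 ⊓ dOpen X x ≤ U.1) c = 0 := by
    rintro V rfl hVU
    exact Iff.rfl
  refine key _ ?_ _
  rw [Scheme.Hom.image_preimage_eq_opensRange_inf, Scheme.Opens.opensRange_ι, inf_comm]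

/-- membership in `tor` is insensitive to multiplication by `x`. -/
theorem mem_tor_of_mul (x : A) (U : X.affineOpens) (c : Γ(X, U.1))
    (h : sc A X U.1 x * c ∈ (tor X x).ideal U) : c ∈ (tor X x).ideal U := by
  rw [mem_tor_iff] at h ⊢
  rw [map_mul, resO_sc] at h
  exact (isUnit_sc x inf_le_right).mul_right_eq_zero.mp h

/-- On an affine open of a locally noetherian scheme a power of `x` kills the torsion. -/
theorem exists_pow_affine [IsLocallyNoetherian X] (x : A) (U : X.affineOpens) :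
    ∃ a : ℕ, ∀ c ∈ (tor X x).ideal U, sc A X U.1 (x ^ a) * c = 0 := by
  have hN : IsNoetherianRing Γ(X, U.1) := IsLocallyNoetherian.component_noetherian U
  obtain ⟨s, hs⟩ := hN.noetherian ((tor X x).ideal U)
  have h1 : ∀ c ∈ (tor X x).ideal U, ∃ n : ℕ, sc A X U.1 (x ^ n) * c = 0 := by
    intro c hc
    rw [mem_tor_iff] at hc
    have key : ∀ (V : X.Opens) (hV : V = U.1 ⊓ dOpen X x) (hVU : V ≤ U.1),
        X.presheaf.map (homOfLE hVU).op c = 0 := by
      rintro V rfl hVU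
      exact hc
    obtain ⟨n, hn⟩ := exists_pow_mul_eq_zero_of_res_basicOpen_eq_zero_of_isAffineOpen X U.2 c
      (sc A X U.1 x) (key _ (dOpen_eq U.1 x).symm _)
    exact ⟨n, by rw [map_pow]; exact hn⟩
  choose! n hn using h1
  refine ⟨s.sup n, fun c hc => ?_⟩
  rw [← hs] at hc
  refine Submodule.span_induction (p := fun c _ => sc A X U.1 (x ^ (s.sup n)) * c = 0)
    ?_ ?_ ?_ ?_ hc
  · intro c hc
    have hc' : c ∈ (tor X x).ideal U := by rw [← hs]; exact Submodule.subset_span hc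
    have hle : n c ≤ s.sup n := Finset.le_sup (f := n) hc
    rw [← Nat.sub_add_cancel hle, pow_add, map_mul, mul_assoc, hn c hc', mul_zero]
  · rw [mul_zero]
  · intro c d _ _ hc hd
    rw [mul_add, hc, hd, add_zero]
  · intro r c _ hc
    rw [smul_eq_mul, mul_left_comm, hc, mul_zero]

/-- A uniform power of `x` kills the torsion. -/
theorem exists_pow [IsLocallyNoetherian X] [CompactSpace X] (x : A) :
    ∃ a : ℕ, ∀ y : X, ∃ W : X.affineOpens, y ∈ W.1 ∧
      ∀ (V : X.affineOpens), V.1 ≤ W.1 → ∀ c ∈ (tor X x).ideal V, sc A X V.1 (x ^ a) * c = 0 := by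
  have h1 : ∀ (W : X.affineOpens), ∃ a : ℕ, ∀ (V : X.affineOpens), V.1 ≤ W.1 →
      ∀ c ∈ (tor X x).ideal V, sc A X V.1 (x ^ a) * c = 0 := by
    intro W
    obtain ⟨a, ha⟩ := exists_pow_affine x W
    refine ⟨a, fun V hVW c hc => ?_⟩
    rw [← (tor X x).map_ideal (U := V) (V := W) hVW] at hc
    refine Submodule.span_induction (p := fun c _ => sc A X V.1 (x ^ a) * c = 0) ?_ ?_ ?_ ?_ hc
    · rintro _ ⟨d, hd, rfl⟩
      have h2 := congrArg (resO X hVW) (ha d hd)
      rw [map_mul, resO_sc, map_zero] at h2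
      exact h2
    · rw [mul_zero]
    · intro c d _ _ hc hd
      rw [mul_add, hc, hd, add_zero]
    · intro r c _ hc
      rw [smul_eq_mul, mul_left_comm, hc, mul_zero]
  choose a ha using h1
  obtain ⟨t, ht⟩ := isCompact_univ.elim_finite_subcover
    (fun W : X.affineOpens => (W.1 : Set X)) (fun W => W.1.2) (by
      intro y _
      obtain ⟨_, ⟨U, hU, rfl⟩, hyU, -⟩ :=
        X.isBasis_affineOpens.exists_subset_of_mem_open (Set.mem_univ y) isOpen_univ
      exact Set.mem_iUnion.mpr ⟨⟨U, hU⟩, hyU⟩)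
  refine ⟨t.sup a, fun y => ?_⟩
  obtain ⟨W, hW⟩ := Set.mem_iUnion.mp (ht (Set.mem_univ y))
  obtain ⟨hWt, hyW⟩ := Set.mem_iUnion.mp hW
  refine ⟨W, hyW, fun V hVW c hc => ?_⟩
  have hle : a W ≤ t.sup a := Finset.le_sup (f := a) hWt
  rw [← Nat.sub_add_cancel hle, pow_add, map_mul, mul_assoc, ha W V hVW c hc, mul_zero]

/-- small affine opens inside a given open. -/
theorem exists_affine_le {U W : X.Opens} {y : X} (hU : y ∈ U) (hW : y ∈ W) :
    ∃ V : X.affineOpens, V.1 ≤ U ∧ V.1 ≤ W ∧ y ∈ V.1 := by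
  obtain ⟨_, ⟨V, hV, rfl⟩, hyV, hVU⟩ :=
    X.isBasis_affineOpens.exists_subset_of_mem_open (show y ∈ (U ⊓ W : X.Opens) from ⟨hU, hW⟩)
      (U ⊓ W).2
  exact ⟨⟨V, hV⟩, fun z hz => (hVU hz).1, fun z hz => (hVU hz).2, hyV⟩

theorem appS_eq_zero_iff {K : X.IdealSheafData} {M N : X.Modules} {p : M ⟶ N}
    (hp : IsKQuot K p) (hM : Coh.IsQCoh M) (U : X.affineOpens) (s : Sec M U.1) :
    appS p U.1 s = 0 ↔ s ∈ K.ideal U • (⊤ : Submodule Γ(X, U.1) (Sec M U.1)) :=
  IsKQuot.app_eq_zero_iff hp hM U s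

theorem appS_surjective {K : X.IdealSheafData} {M N : X.Modules} {p : M ⟶ N}
    (hp : IsKQuot K p) (hM : Coh.IsQCoh M) (U : X.affineOpens) :
    Function.Surjective (appS p U.1) :=
  IsKQuot.app_surjective hp hM U.2

/-- The kernel of `E → E / T E` is killed by a power of `x`. -/
theorem smul_eq_zero_of_kπ (x : A) {a : ℕ}
    (ha : ∀ y : X, ∃ W : X.affineOpens, y ∈ W.1 ∧
      ∀ (V : X.affineOpens), V.1 ≤ W.1 → ∀ c ∈ (tor X x).ideal V, sc A X V.1 (x ^ a) * c = 0)
    {E E' : X.Modules} {p : E ⟶ E'} (hp : IsKQuot (tor X x) p) (hE : Coh.IsQCoh E)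
    (U : X.Opens) (s : Sec E U) (hs : appS p U s = 0) : sc A X U (x ^ a) • s = 0 := by
  refine eq_of_locally E fun y hy => ?_
  obtain ⟨W, hyW, hW⟩ := ha y
  obtain ⟨V, hVU, hVW, hyV⟩ := exists_affine_le hy hyW
  refine ⟨V.1, hVU, hyV, ?_⟩
  rw [map_zero, res_smul, resO_sc]
  have h1 : appS p V.1 (res E hVU s) = 0 := by
    rw [appS_res, hs, map_zero]
  rw [appS_eq_zero_iff hp hE V] at h1
  refine Submodule.smul_induction_on h1 (fun c hc m _ => ?_) (fun z w hz hw => ?_)
  · have h2 := hW V hVW c hc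
    rw [← mul_smul, h2, zero_smul]
  · rw [smul_add, hz, hw, add_zero]

/-- coordinates of elements of `I · M`. -/
theorem mem_smul_top_iff {S M κ : Type*} [CommRing S] [AddCommGroup M] [Module S M] [Fintype κ]
    (b : Module.Basis κ S M) (I : Ideal S) (m : M) :
    m ∈ I • (⊤ : Submodule S M) ↔ ∀ i, b.repr m i ∈ I := by
  constructor
  · intro hm i
    refine Submodule.smul_induction_on hm (fun c hc m _ => ?_) (fun z w hz hw => ?_)
    · rw [map_smul, Finsupp.smul_apply, smul_eq_mul]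
      exact Ideal.mul_mem_right _ _ hc
    · rw [map_add, Finsupp.add_apply]
      exact add_mem hz hw
  · intro h
    rw [← b.sum_repr m]
    exact Submodule.sum_mem _ fun i _ => Submodule.smul_mem_smul (h i) trivial

/-- `x` is a nonzerodivisor on `E / T E` for `E` finite locally free. -/
theorem mono_smulMod (x : A) {E E' : X.Modules} {p : E ⟶ E'} (hp : IsKQuot (tor X x) p)
    (hq : Coh.IsQCoh E) (hE : FlatMod.IsFinLocFree E) : Mono (Formal.smulMod A E' x) := by
  refine mono_of_locally_injective _ fun y U hy => ?_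
  obtain ⟨W, n, hyW, b, hb⟩ := (isFinLocFree_iff E).mp hE y
  obtain ⟨V, hVU, hVW, hyV⟩ := exists_affine_le hy hyW
  refine ⟨V.1, hVU, hyV, fun s hs => ?_⟩
  obtain ⟨t, rfl⟩ := appS_surjective hp hq V s
  rw [appS_smulMod, ← map_smul, appS_eq_zero_iff hp hq V] at hs
  rw [appS_eq_zero_iff hp hq V]
  have h2 := (mem_smul_top_iff (hb.basis hVW) ((tor X x).ideal V) (sc A X V.1 x • t)).mp hs
  refine (mem_smul_top_iff (hb.basis hVW) ((tor X x).ideal V) t).mpr fun i => ?_
  have h3 := h2 i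
  rw [map_smul, Finsupp.smul_apply, smul_eq_mul] at h3
  exact mem_tor_of_mul x V _ h3

/-- A morphism `F → E` which sends a basis of `F` to a basis of `E` up to powers of `x` over the
open where `x` is invertible, induces an injection `F/TF → E/TE` on global sections. -/
theorem injective_of_dOpen (x : A) {E E' F F' : X.Modules} {p : E ⟶ E'} {q : F ⟶ F'}
    (hp : IsKQuot (tor X x) p) (hq : IsKQuot (tor X x) q) (hE : Coh.IsQCoh E)
    (hF : Coh.IsQCoh F) {κ : Type*} [Fintype κ] {f : κ → Sec F ⊤} (hf : IsLocBasis f)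
    {θ : κ → Sec E (dOpen X x)} (hθ : IsLocBasis θ) (α : F ⟶ E) (j : F' ⟶ E')
    (hj : q ≫ j = α ≫ p) (N : κ → ℕ)
    (hα : ∀ i, res E (le_top : dOpen X x ≤ ⊤) (appS α ⊤ (f i)) =
      sc A X (dOpen X x) (x ^ N i) • θ i) :
    Function.Injective (appS j ⊤) := by
  rw [← LinearMap.ker_eq_bot, LinearMap.ker_eq_bot']
  intro s hs
  refine eq_of_locally F' fun y hy => ?_
  obtain ⟨V, hVU, -, hyV⟩ := exists_affine_le (U := (⊤ : X.Opens)) (W := ⊤) (y := y) trivial trivial
  refine ⟨V.1, hVU, hyV, ?_⟩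
  rw [map_zero]
  obtain ⟨t, ht⟩ := appS_surjective hq hF V (res F' hVU s)
  obtain ⟨c, rfl⟩ : ∃ c : κ → Γ(X, V.1), comb f (le_top : V.1 ≤ ⊤) c = t := (hf V.1 le_top).2 t
  have h1 : appS p V.1 (appS α V.1 (comb f (le_top : V.1 ≤ ⊤) c)) = 0 := by
    rw [← appS_comp, ← hj, appS_comp, ht, appS_res, hs, map_zero]
  rw [appS_eq_zero_iff hp hE V] at h1
  -- restrict to `V ⊓ D`
  have h2 : res E (inf_le_left : V.1 ⊓ dOpen X x ≤ V.1)
      (appS α V.1 (comb f (le_top : V.1 ≤ ⊤) c)) = 0 := by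
    refine Submodule.smul_induction_on (p := fun m => res E (inf_le_left : V.1 ⊓ dOpen X x ≤ V.1)
      m = 0) h1 (fun d hd m _ => ?_) (fun z w hz hw => ?_)
    · rw [res_smul, (mem_tor_iff x V d).mp hd, zero_smul]
    · rw [map_add, hz, hw, add_zero]
  have h3 : comb θ (inf_le_right : V.1 ⊓ dOpen X x ≤ dOpen X x)
      (fun i => resO X (inf_le_left : V.1 ⊓ dOpen X x ≤ V.1) (c i) *
        sc A X (V.1 ⊓ dOpen X x) (x ^ N i)) = 0 := by
    rw [← h2, comb_apply, comb_apply, map_sum, map_sum]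
    refine Finset.sum_congr rfl fun i _ => ?_
    rw [map_smul, res_smul, mul_smul, appS_res, res_res,
      ← res_res E (le_top : dOpen X x ≤ ⊤) (inf_le_right : V.1 ⊓ dOpen X x ≤ dOpen X x), hα,
      res_smul, resO_sc]
  have h4 := (hθ _ inf_le_right).1 (h3.trans (map_zero _).symm)
  have h5 : ∀ i, c i ∈ (tor X x).ideal V := by
    intro i
    rw [mem_tor_iff]
    have h6 := congrFun h4 i
    rw [Pi.zero_apply] at h6
    have h7 : IsUnit (sc A X (V.1 ⊓ dOpen X x) (x ^ N i)) := by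
      rw [map_pow]
      exact (isUnit_sc x inf_le_right).pow _
    exact h7.mul_left_eq_zero.mp h6
  rw [← ht, appS_eq_zero_iff hq hF V, comb_apply]
  exact Submodule.sum_mem _ fun i _ => Submodule.smul_mem_smul (h5 i) trivial

end K258.DvrTor
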