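import Groth.Agent.FibDim.K582.CMConst
import Groth.Agent.Ega43.CMOpen
import Groth.Agent.Flat2D.CMLocus

/-!
# Fibre dimension on the Cohen-Macaulay locus
-/

set_option autoImplicit false
universe u

open AlgebraicGeometry CategoryTheory Limits TopologicalSpace LocCoh

namespace K258.FibDimPieces

open Groth.Agent.Flat2D.FiberStalk Groth.Agent.Flat2D.CMFlatArt
open Groth.Agent.Flat2D.CMLocus

/-- The local ring at a generic point of an irreducible component of a locally Noetherian scheme is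
Cohen-Macaulay. -/
theorem isCM_stalk_of_isGenericPoint (F : Scheme.{u}) [IsLocallyNoetherian F] (ξ : F) (Z : Set F)
    (hZ : Z ∈ irreducibleComponents F) (hξ : IsGenericPoint ξ Z) :
    IsCohenMacaulayLocalRing (F.presheaf.stalk ξ) := by
  have hprime : ∀ y : F, y ⤳ ξ → y = ξ := by
    intro y hy
    have h1 : Z ⊆ closure {y} := by
      rw [← hξ.def]
      exact hy.closure_subset
    have h2 : closure {y} = Z :=
      le_antisymm (hZ.2 isIrreducible_singleton.closure h1) h1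
    exact (IsGenericPoint.eq (S := Z) h2 hξ)
  have hmax : ∀ p : Spec (F.presheaf.stalk ξ), p = IsLocalRing.closedPoint (F.presheaf.stalk ξ) := by
    intro p
    apply (F.fromSpecStalk ξ).isEmbedding.injective
    have h3 : F.fromSpecStalk ξ p ∈ Set.range (F.fromSpecStalk ξ) := ⟨p, rfl⟩
    rw [Scheme.range_fromSpecStalk] at h3
    rw [hprime _ h3]
    exact (F.fromSpecStalk_closedPoint).symm
  have : Ring.KrullDimLE 0 (F.presheaf.stalk ξ) := Ring.KrullDimLE.mk₀ fun I hI => by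
    have := hmax ⟨I, hI⟩
    have h4 : I = IsLocalRing.maximalIdeal (F.presheaf.stalk ξ) := congrArg PrimeSpectrum.asIdeal this
    rw [h4]
    infer_instance
  have : IsArtinianRing (F.presheaf.stalk ξ) := isArtinianRing_iff_krullDimLE_zero.2 this
  exact isCM_of_isArtinian _

/-- At a generic point of an irreducible component of a fibre, `f` is Cohen-Macaulay. -/
theorem isCMAt_of_isGenericPoint {X S : Scheme.{u}} (f : X ⟶ S) [Flat f] [LocallyOfFiniteType f]
    (x : X) (hgen : ∃ Z ∈ irreducibleComponents ↥(f.fiber (f x)), IsGenericPoint (f.asFiber x) Z) :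
    MoreMor.IsCMAt f x := by
  obtain ⟨Z, hZ, hx⟩ := hgen
  have : LocallyOfFiniteType (f.fiberToSpecResidueField (f x)) :=
    MorphismProperty.pullback_snd (P := @LocallyOfFiniteType) f (S.fromSpecResidueField (f x)) ‹_›
  have : IsLocallyNoetherian (f.fiber (f x)) :=
    LocallyOfFiniteType.isLocallyNoetherian (f.fiberToSpecResidueField (f x))
  rw [moreMor_isCMAt_iff]
  refine ⟨Flat.stalkMap f _, ?_⟩
  have hz' := isCM_stalk_of_isGenericPoint (f.fiber (f x)) (f.asFiber x) Z hZ hx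
  have key : ∀ (s : S) (z : f.fiber s), IsCohenMacaulayLocalRing ((f.fiber s).presheaf.stalk z) →
      MoreMor.IsCMAt f (f.fiberι s z) := by
    intro s z hz
    rw [moreMor_isCMAt_iff]
    exact ⟨Flat.stalkMap f _, isCohenMacaulayLocalRing_of_ringEquiv (fiberStalkEquiv f s z).symm⟩
  have h := key (f x) (f.asFiber x) hz'
  rw [f.fiberι_asFiber x, moreMor_isCMAt_iff] at h
  exact h.2

/-- On the Cohen-Macaulay locus, the fibre dimension is locally constant. -/
theorem exists_open_fibreDimAt_eq {X S : Scheme.{u}} (f : X ⟶ S) [Flat f]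
    [LocallyOfFinitePresentation f] (x : X) (hx : MoreMor.IsCMAt f x) :
    ∃ U : X.Opens, x ∈ U ∧ ∀ y ∈ U, MoreMor.IsCMAt f y ∧
      FlatMor.fibreDimAt f y = FlatMor.fibreDimAt f x := by
  let W : X.Opens := ⟨{x : ↑X | MoreMor.IsCMAt f x}, isOpen_cmLocus f⟩
  have hW : ∀ v : (W : Scheme.{u}), MoreMor.IsCMAt (W.ι ≫ f) v := fun v =>
    (Groth.Agent.Ega43.CMOpen.isCMAt_comp_iff W.ι f v).2 v.2
  have hc := K582.CMConst.isLocallyConstant (W.ι ≫ f) hW
  rw [IsLocallyConstant.iff_exists_open] at hc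
  obtain ⟨v, rfl⟩ : ∃ v : (W : Scheme.{u}), W.ι v = x := ⟨⟨x, hx⟩, rfl⟩
  obtain ⟨O, hO, hvO, hO'⟩ := hc v
  refine ⟨W.ι ''ᵁ ⟨O, hO⟩, ⟨v, hvO, rfl⟩, ?_⟩
  rintro _ ⟨w, hw, rfl⟩
  refine ⟨w.2, ?_⟩
  have h1 := K582.FibRelDim.fibreDimAt_comp_isOpenImmersion W.ι f v
  have h2 := K582.FibRelDim.fibreDimAt_comp_isOpenImmersion W.ι f w
  exact h2.symm.trans ((hO' w hw).trans h1)

/-- S9739. -/
theorem fibreDimAt_eq_of_specializes {X S : Scheme.{u}} (f : X ⟶ S) [Flat f]
    [LocallyOfFinitePresentation f] (x x' : X) (hsp : x' ⤳ x)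
    (hgen : ∃ Z ∈ irreducibleComponents ↥(f.fiber (f x)), IsGenericPoint (f.asFiber x) Z) :
    FlatMor.fibreDimAt f x' = FlatMor.fibreDimAt f x := by
  obtain ⟨U, hxU, hU⟩ := exists_open_fibreDimAt_eq f x (isCMAt_of_isGenericPoint f x hgen)
  exact (hU x' (hsp.mem_open U.2 hxU)).2

/-- S9757. -/
theorem exists_pieces {X S : Scheme.{u}} (f : X ⟶ S) [Flat f] [LocallyOfFinitePresentation f] :
    ∃ U : ℕ → X.Opens, (∀ s : S, Dense ((f.fiberι s) ⁻¹' ((⨆ d, U d : X.Opens) : Set ↑X))) ∧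
      ∀ (d : ℕ) (x : ↑X), x ∈ U d → FlatMor.fibreDimAt f x = d := by
  refine ⟨fun d => ⟨{x | MoreMor.IsCMAt f x ∧ FlatMor.fibreDimAt f x = d}, ?_⟩, ?_, ?_⟩
  · rw [isOpen_iff_forall_mem_open]
    rintro x ⟨hx, hd⟩
    obtain ⟨U, hxU, hU⟩ := exists_open_fibreDimAt_eq f x hx
    exact ⟨U, fun y hy => ⟨(hU y hy).1, (hU y hy).2.trans hd⟩, U.2, hxU⟩
  · intro s
    refine (dense_cmLocus_fibre f s).mono ?_
    intro z hz
    obtain ⟨d, hd⟩ := Groth.Agent.Flat2D.FibDimNat.exists_nat_fibreDimAt f (f.fiberι s z)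
    simp only [Set.mem_preimage, SetLike.mem_coe, Opens.mem_iSup]
    exact ⟨d, hz, hd⟩
  · rintro d x ⟨-, hx⟩
    exact hx

end K258.FibDimPieces
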