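import Groth.Agent.FBase.K107.GeomPt
import Mathlib.AlgebraicGeometry.Geometrically.Irreducible
import Mathlib.AlgebraicGeometry.Geometrically.Connected

/-!
# Geometric irreducibility and connectedness: descent along surjections, loci under base change
-/

set_option autoImplicit false
universe u
open CategoryTheory CategoryTheory.Limits AlgebraicGeometry

namespace K258.GeomFib

theorem irr_of_isPullback {X Y X' Y' : Scheme.{u}} {f : X ⟶ Y} {g : Y' ⟶ Y} {f' : X' ⟶ Y'}
    {g' : X' ⟶ X} (hc : IsPullback g' f' f g) [Surjective g] (hf' : GeometricallyIrreducible f') :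
    GeometricallyIrreducible f := by
  refine ⟨?_⟩
  rw [geometrically_iff_of_isClosedUnderIsomorphisms]
  intro K _ y
  obtain ⟨L, _, _, i, τ, hτ⟩ := K107.GeomPt.exists_lift g y
  have h1 : IrreducibleSpace ↑(pullback f' τ) :=
    pullback_of_geometrically (P := (IrreducibleSpace ·))
      (GeometricallyIrreducible.geometrically_irreducibleSpace (f := f')) L τ
  have hp := (IsPullback.of_hasPullback f' τ).paste_horiz hc
  obtain ⟨q, hq⟩ := K107.GeomPt.exists_surjective hτ.symm hp
  have h2 := (irreducibleSpace_def _).1 h1
  have h3 := h2.image q.base q.continuous.continuousOn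
  rw [Set.top_eq_univ, Set.image_univ, Set.range_eq_univ.2 q.surjective] at h3
  exact (irreducibleSpace_def _).2 h3

theorem conn_of_isPullback {X Y X' Y' : Scheme.{u}} {f : X ⟶ Y} {g : Y' ⟶ Y} {f' : X' ⟶ Y'}
    {g' : X' ⟶ X} (hc : IsPullback g' f' f g) [Surjective g] (hf' : GeometricallyConnected f') :
    GeometricallyConnected f := by
  refine ⟨?_⟩
  rw [geometrically_iff_of_isClosedUnderIsomorphisms]
  intro K _ y
  obtain ⟨L, _, _, i, τ, hτ⟩ := K107.GeomPt.exists_lift g y
  have h1 : ConnectedSpace ↑(pullback f' τ) :=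
    pullback_of_geometrically (P := (ConnectedSpace ·))
      (GeometricallyConnected.geometrically_connectedSpace (f := f')) L τ
  have hp := (IsPullback.of_hasPullback f' τ).paste_horiz hc
  obtain ⟨q, hq⟩ := K107.GeomPt.exists_surjective hτ.symm hp
  exact q.surjective.connectedSpace q.continuous

instance surjective_specMap_residueFieldMap {X Y : Scheme.{u}} (g : X ⟶ Y) (x : X) :
    Surjective (Spec.map (g.residueFieldMap x)) := by
  refine ⟨fun y ↦ ⟨IsLocalRing.closedPoint _, ?_⟩⟩
  have : Subsingleton (Spec (Y.residueField (g x))) :=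
    inferInstanceAs (Subsingleton (PrimeSpectrum (Y.residueField (g x))))
  exact Subsingleton.elim _ _

theorem irr_fiber_iff {X Y X' Y' : Scheme.{u}} {f : X ⟶ Y} {g : Y' ⟶ Y} {f' : X' ⟶ Y'}
    {g' : X' ⟶ X} (hc : IsPullback g' f' f g) (y' : Y') :
    GeometricallyIrreducible (f'.fiberToSpecResidueField y') ↔
      GeometricallyIrreducible (f.fiberToSpecResidueField (g y')) := by
  have h := isPullback_fiberToSpecResidueField_of_isPullback hc y'
  constructor
  · intro h1
    exact irr_of_isPullback h h1
  · intro h1
    exact MorphismProperty.of_isPullback h h1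

theorem conn_fiber_iff {X Y X' Y' : Scheme.{u}} {f : X ⟶ Y} {g : Y' ⟶ Y} {f' : X' ⟶ Y'}
    {g' : X' ⟶ X} (hc : IsPullback g' f' f g) (y' : Y') :
    GeometricallyConnected (f'.fiberToSpecResidueField y') ↔
      GeometricallyConnected (f.fiberToSpecResidueField (g y')) := by
  have h := isPullback_fiberToSpecResidueField_of_isPullback hc y'
  constructor
  · intro h1
    exact conn_of_isPullback h h1
  · intro h1
    exact MorphismProperty.of_isPullback h h1

end K258.GeomFib
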