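import Groth.Agent.S0396
import Groth.Agent.FlatA.FlatStalk
import Mathlib.AlgebraicGeometry.Morphisms.Flat
import Mathlib.AlgebraicGeometry.Noetherian
import Mathlib.AlgebraicGeometry.IdealSheaf.Subscheme
import Mathlib.AlgebraicGeometry.Pullbacks
import Mathlib.RingTheory.RingHom.Flat

/-!
# Flatness from flatness over the infinitesimal neighbourhoods of a closed subscheme
-/

set_option autoImplicit false
universe u

open AlgebraicGeometry CategoryTheory Limits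

namespace K258.InfNbhd

theorem isPullback_comp_mono {C : Type*} [Category C] {P B R R' S : C} {p₁ : P ⟶ B} {p₂ : P ⟶ R'}
    {φ : B ⟶ R} {ρ : R' ⟶ R} (hP : IsPullback p₁ p₂ φ ρ) (b : R ⟶ S) [Mono b] :
    IsPullback p₁ p₂ (φ ≫ b) (ρ ≫ b) := by
  refine ⟨⟨by rw [reassoc_of% hP.w]⟩, ⟨PullbackCone.IsLimit.mk _
    (fun s ↦ hP.lift s.fst s.snd (by
      rw [← cancel_mono b, Category.assoc, Category.assoc]
      exact s.condition)) (fun s ↦ hP.lift_fst _ _ _) (fun s ↦ hP.lift_snd _ _ _)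
      (fun s m h1 h2 ↦ hP.hom_ext ?_ ?_)⟩⟩
  · rw [h1, hP.lift_fst]
  · rw [h2, hP.lift_snd]

theorem flat_of_charts {X S Z : Scheme.{u}} (f : X ⟶ S) (ι : Z ⟶ S)
    (hfl : Flat (pullback.snd f ι)) {P B R R' : Scheme.{u}} {φ : B ⟶ R} {ρ : R' ⟶ R}
    {p₁ : P ⟶ B} {p₂ : P ⟶ R'} (hP : IsPullback p₁ p₂ φ ρ) (a : B ⟶ X) [IsOpenImmersion a]
    (b : R ⟶ S) [Mono b] (c : R' ⟶ Z) (h1 : a ≫ f = φ ≫ b) (h2 : c ≫ ι = ρ ≫ b) : Flat p₂ := by
  have hP' : IsPullback p₁ p₂ (a ≫ f) (c ≫ ι) := by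
    rw [h1, h2]
    exact isPullback_comp_mono hP b
  -- `T = X ×_S R'`
  have hT := IsPullback.of_hasPullback f (c ≫ ι)
  have hTf : Flat (pullback.snd f (c ≫ ι)) := by
    have hw : (pullback.fst f (c ≫ ι)) ≫ f = (pullback.snd f (c ≫ ι) ≫ c) ≫ ι := by
      rw [Category.assoc]; exact hT.w
    have : IsPullback (pullback.lift (pullback.fst f (c ≫ ι)) (pullback.snd f (c ≫ ι) ≫ c) hw)
        (pullback.snd f (c ≫ ι)) (pullback.snd f ι) c :=
      IsPullback.of_right (h₁₂ := pullback.fst f ι) (h₂₂ := ι) (v₁₃ := f)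
        (by rw [pullback.lift_fst]; exact hT) (by rw [pullback.lift_snd])
        (IsPullback.of_hasPullback f ι)
    exact MorphismProperty.of_isPullback this hfl
  let q : P ⟶ pullback f (c ≫ ι) := pullback.lift (p₁ ≫ a) p₂ (by
    rw [Category.assoc]; exact hP'.w)
  have hq : IsPullback q p₁ (pullback.fst f (c ≫ ι)) a :=
    IsPullback.of_right (h₁₂ := pullback.snd f (c ≫ ι)) (h₂₂ := f) (v₁₃ := c ≫ ι)
      (by rw [pullback.lift_snd]; exact hP'.flip) (by rw [pullback.lift_fst]) hT.flip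
  have hqo : IsOpenImmersion q := MorphismProperty.of_isPullback hq.flip ‹_›
  have : p₂ = q ≫ pullback.snd f (c ≫ ι) := by rw [pullback.lift_snd]
  rw [this]
  infer_instance

theorem ring_flat {X S : Scheme.{u}} (f : X ⟶ S) (J : S.IdealSheafData)
    (hfl : Flat (pullback.snd f J.subschemeι)) (V : S.Opens) (hV : IsAffineOpen V) (U : X.Opens)
    (hU : IsAffineOpen U) (e : U ≤ f ⁻¹ᵁ V) :
    letI := (f.appLE V U e).hom.toAlgebra
    Module.Flat (Γ(S, V) ⧸ J.ideal ⟨V, hV⟩)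
      (TensorProduct Γ(S, V) (Γ(S, V) ⧸ J.ideal ⟨V, hV⟩) Γ(X, U)) := by
  let := (f.appLE V U e).hom.toAlgebra
  have hPP : IsPullback
      (Spec.map (CommRingCat.ofHom (Algebra.TensorProduct.includeRight :
        Γ(X, U) →ₐ[Γ(S, V)] TensorProduct Γ(S, V) (Γ(S, V) ⧸ J.ideal ⟨V, hV⟩) Γ(X, U)).toRingHom))
      (Spec.map (CommRingCat.ofHom (algebraMap (Γ(S, V) ⧸ J.ideal ⟨V, hV⟩)
        (TensorProduct Γ(S, V) (Γ(S, V) ⧸ J.ideal ⟨V, hV⟩) Γ(X, U)))))
      (Spec.map (f.appLE V U e))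
      (Spec.map (CommRingCat.ofHom (Ideal.Quotient.mk (J.ideal ⟨V, hV⟩)))) :=
    (isPullback_SpecMap_of_isPushout _ _ _ _
      (CommRingCat.isPushout_tensorProduct Γ(S, V) (Γ(S, V) ⧸ J.ideal ⟨V, hV⟩) Γ(X, U))).flip
  have h := flat_of_charts f J.subschemeι hfl hPP hU.fromSpec hV.fromSpec
    (J.subschemeCover.f ⟨V, hV⟩) (IsAffineOpen.SpecMap_appLE_fromSpec f hV hU e).symm 
    ((J.subschemeCover_map_subschemeι ⟨V, hV⟩).trans (J.glueDataObjι_ι ⟨V, hV⟩))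
  rw [HasRingHomProperty.Spec_iff (P := @Flat)] at h
  exact RingHom.flat_algebraMap_iff.mp h

theorem main {X S : Scheme.{u}} (f : X ⟶ S) [IsLocallyNoetherian X] [IsLocallyNoetherian S]
    (I : S.IdealSheafData) (h : ∀ n : ℕ, Flat (pullback.snd f (I ^ (n + 1)).subschemeι)) (x : X)
    (hx : f x ∈ I.support) : (f.stalkMap x).hom.Flat := by
  obtain ⟨_, ⟨V, hV, rfl⟩, hxV, -⟩ :=
    S.isBasis_affineOpens.exists_subset_of_mem_open (Set.mem_univ (f x)) isOpen_univ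
  obtain ⟨_, ⟨U, hU, rfl⟩, hxU, e⟩ :=
    X.isBasis_affineOpens.exists_subset_of_mem_open (show x ∈ (f ⁻¹ᵁ V : Set X) from hxV)
      (f ⁻¹ᵁ V).isOpen
  replace e : U ≤ f ⁻¹ᵁ V := e
  let := (f.appLE V U e).hom.toAlgebra
  have n1 : IsNoetherianRing Γ(S, V) := IsLocallyNoetherian.component_noetherian ⟨V, hV⟩
  have n2 : IsNoetherianRing Γ(X, U) := IsLocallyNoetherian.component_noetherian ⟨U, hU⟩
  let q : PrimeSpectrum Γ(X, U) := hU.primeIdealOf ⟨x, hxU⟩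
  rw [Groth.Agent.FlatA.FlatStalk.flat_stalkMap_iff V hV U hU e hxU]
  have hfl := Groth.Agent.S0396.result (R := Γ(S, V)) (S := Γ(X, U)) (M := Γ(X, U)) (I.ideal ⟨V, hV⟩)
    (fun n hn ↦ by
      obtain ⟨m, rfl⟩ := Nat.exists_eq_succ_of_ne_zero hn.ne'
      exact ring_flat f (I ^ (m + 1)) (h m) V hV U hU e) q.asIdeal ?_
  · exact hfl
  · have h1 : q.asIdeal.comap (f.appLE V U e).hom = (hV.primeIdealOf ⟨f x, hxV⟩).asIdeal :=
      congrArg PrimeSpectrum.asIdeal (IsAffineOpen.comap_primeIdealOf_appLE V hV U hU e hxU)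
    rw [Ideal.map_le_iff_le_comap]
    change _ ≤ q.asIdeal.comap (f.appLE V U e).hom
    rw [h1]
    rw [Scheme.IdealSheafData.mem_support_iff_of_mem (U := ⟨V, hV⟩) hxV,
      Scheme.mem_zeroLocus_iff] at hx
    intro g hg
    by_contra hgp
    refine hx g hg ((S.mem_basicOpen g (f x) hxV).mpr ?_)
    let algRRp : Algebra Γ(S, V) (S.presheaf.stalk (f x)) :=
      S.presheaf.algebra_section_stalk ⟨f x, hxV⟩
    have : IsLocalization.AtPrime (S.presheaf.stalk (f x)) (hV.primeIdealOf ⟨f x, hxV⟩).asIdeal :=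
      hV.isLocalization_stalk ⟨f x, hxV⟩
    exact (IsLocalization.AtPrime.isUnit_to_map_iff (S.presheaf.stalk (f x))
      (hV.primeIdealOf ⟨f x, hxV⟩).asIdeal g).mpr hgp

end K258.InfNbhd
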