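import Groth.Agent.Flat2G.SliceSch
import Groth.Agent.Flat2D.FiberStalk
import Groth.Prelude.Def_CAlg

/-!
# Effective Cartier divisors through a point, flat over the base
-/

set_option autoImplicit false
universe u

open AlgebraicGeometry CategoryTheory Limits
open RingTheory.Sequence
open Groth.Agent.Flat2G.SliceSeq Groth.Agent.Flat2G.SliceSch

namespace K258.SliceOne

/-- An element of the local ring at a flat point, regular on the fibre, defines on some affine
neighbourhood an effective Cartier divisor flat over the base. -/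
theorem exists_divisor {X S : Scheme.{u}} (f : X ⟶ S) [LocallyOfFinitePresentation f] (x : X)
    (hflat : (f.stalkMap x).hom.Flat) (h₁ : X.presheaf.stalk x)
    (hm : h₁ ∈ IsLocalRing.maximalIdeal (X.presheaf.stalk x))
    (hreg : ∀ b, h₁ * b ∈ Ideal.map (f.stalkMap x).hom
      (IsLocalRing.maximalIdeal (S.presheaf.stalk (f x))) → b ∈ Ideal.map (f.stalkMap x).hom
      (IsLocalRing.maximalIdeal (S.presheaf.stalk (f x)))) :
    ∃ (V : S.Opens) (_ : IsAffineOpen V) (U : X.Opens) (hU : IsAffineOpen U) (hx : x ∈ U)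
      (_ : U ≤ f ⁻¹ᵁ V) (h' : Γ(X, U)),
      X.presheaf.germ U x hx h' = h₁ ∧ h' ∈ nonZeroDivisors Γ(X, U) ∧
      Flat (Spec.map (CommRingCat.ofHom (Ideal.Quotient.mk (Ideal.span {h'}))) ≫
        hU.fromSpec ≫ f) ∧
      LocallyOfFinitePresentation (Spec.map (CommRingCat.ofHom
        (Ideal.Quotient.mk (Ideal.span {h'}))) ≫ hU.fromSpec ≫ f) := by
  obtain ⟨V, hV, U, hU, hx, e, hs', hgerm, H⟩ := exists_sliced f x hflat [h₁]
    (by simpa using hm) ⟨hreg, trivial⟩
  obtain ⟨h', rfl⟩ : ∃ h', hs' = [h'] := by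
    rw [← List.length_eq_one_iff]
    have := congrArg List.length hgerm
    simpa using this
  have hh' : X.presheaf.germ U x hx h' = h₁ := by simpa using hgerm
  let := (f.appLE V U e).hom.toAlgebra
  obtain ⟨-, H2, H3⟩ := H
  refine ⟨V, hV, U, hU, hx, e, h', hh', ?_, ?_, ?_⟩
  · rw [mem_nonZeroDivisors_iff_right]
    intro b hb
    exact H2 b (by rw [mul_comm]; exact hb)
  · rw [← hV.SpecMap_appLE_fromSpec f hU e, ← Category.assoc, ← Spec.map_comp]
    have h1 : Flat (Spec.map (f.appLE V U e ≫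
        CommRingCat.ofHom (Ideal.Quotient.mk (Ideal.span {h'})))) := by
      rw [HasRingHomProperty.Spec_iff (P := @Flat)]
      have h2 := H3
      simp only [Sliced] at h2
      rw [bot_sup_eq] at h2
      exact h2
    infer_instance
  · have h2 : LocallyOfFinitePresentation
        (Spec.map (CommRingCat.ofHom (Ideal.Quotient.mk (Ideal.span {h'})))) := by
      rw [HasRingHomProperty.Spec_iff (P := @LocallyOfFinitePresentation)]
      refine RingHom.FinitePresentation.of_surjective _ Ideal.Quotient.mk_surjective ?_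
      rw [CommRingCat.hom_ofHom, Ideal.mk_ker]
      exact Submodule.fg_span_singleton h'
    infer_instance

open LocCoh in
theorem exists_regular_of_depth {R : Type u} [CommRing R] [IsLocalRing R] (h : 1 ≤ depth R R) :
    ∃ r ∈ IsLocalRing.maximalIdeal R, ∀ b, r * b = 0 → b = 0 := by
  unfold depth idealDepth at h
  rw [if_neg (fun h1 ↦ ?_)] at h
  · by_contra hc
    push Not at hc
    refine absurd h (not_le.mpr ?_)
    refine lt_of_le_of_lt (b := 0) (iSup₂_le fun rs hrs ↦ ?_) zero_lt_one
    obtain ⟨h1, h2⟩ := hrs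
    match rs, h1, h2 with
    | [], _, _ => simp
    | r :: rs, h1, h2 =>
      obtain ⟨b, hb, hb0⟩ := hc r (h2 r List.mem_cons_self)
      refine absurd ?_ hb0
      have h3 := (isWeaklyRegular_cons_iff R r rs).mp h1
      exact h3.1 (by simpa using hb)
  · have h2 : IsLocalRing.maximalIdeal R = ⊤ := by
      have h3 : (IsLocalRing.maximalIdeal R) • (⊤ : Submodule R R) = IsLocalRing.maximalIdeal R := by
        rw [smul_eq_mul, Ideal.mul_top]
      rw [← h3, h1]
    exact (IsLocalRing.maximalIdeal.isMaximal R).ne_top h2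

theorem main {X S : Scheme.{u}} (f : X ⟶ S) [LocallyOfFinitePresentation f] (x : X)
    (hflat : (f.stalkMap x).hom.Flat)
    (hdepth : 1 ≤ LocCoh.depth ↑((f.fiber (f x)).presheaf.stalk (f.asFiber x))
      ↑((f.fiber (f x)).presheaf.stalk (f.asFiber x))) :
    ∃ (U : X.Opens) (hU : IsAffineOpen U) (hx : x ∈ U) (h' : Γ(X, U)),
      h' ∈ nonZeroDivisors Γ(X, U) ∧
      X.presheaf.germ U x hx h' ∈ IsLocalRing.maximalIdeal ↑(X.presheaf.stalk x) ∧
      Flat (Spec.map (CommRingCat.ofHom (Ideal.Quotient.mk (Ideal.span {h'}))) ≫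
        hU.fromSpec ≫ f) ∧
      LocallyOfFinitePresentation (Spec.map (CommRingCat.ofHom
        (Ideal.Quotient.mk (Ideal.span {h'}))) ≫ hU.fromSpec ≫ f) := by
  obtain ⟨e⟩ := Groth.Agent.Flat2D.FiberStalk.nonempty_asFiber_stalkEquiv' f x
  obtain ⟨r, hr, hr0⟩ := exists_regular_of_depth hdepth
  obtain ⟨h₁, hh₁⟩ := Ideal.Quotient.mk_surjective (e.symm r)
  have hm : h₁ ∈ IsLocalRing.maximalIdeal (X.presheaf.stalk x) := by
    rw [IsLocalRing.mem_maximalIdeal]
    intro hu
    have h2 : IsUnit (e.symm r) := by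
      rw [← hh₁]; exact hu.map _
    have h3 : IsUnit r := by
      have := h2.map e
      simpa using this
    exact (IsLocalRing.mem_maximalIdeal r).mp hr h3
  obtain ⟨V, hV, U, hU, hx, e', h', hg, hz, h4, h5⟩ := exists_divisor f x hflat h₁ hm (by
    intro b hb
    rw [← Ideal.Quotient.eq_zero_iff_mem] at hb ⊢
    rw [map_mul, hh₁] at hb
    have h6 : r * e (Ideal.Quotient.mk _ b) = 0 := by
      have := congrArg e hb
      simpa using this
    have h7 := hr0 _ h6
    simpa using h7)
  exact ⟨U, hU, hx, h', hz, hg ▸ hm, h4, h5⟩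

end K258.SliceOne
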