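import Groth.Agent.Grpsch.EtLoc
import Mathlib.AlgebraicGeometry.ZariskisMainTheorem
import Groth.Prelude.Def_Hens2

/-!
# Splitting off the isolated points of a fibre after an elementary étale base change
-/

set_option autoImplicit false
universe u
open CategoryTheory CategoryTheory.Limits AlgebraicGeometry

namespace K258.SplitIso

theorem apply_fiberι {X S : Scheme.{u}} (f : X ⟶ S) (s : S) (z : f.fiber s) :
    f (f.fiberι s z) = s := by
  have h : f.fiberι s z ∈ Set.range (f.fiberι s) := ⟨z, rfl⟩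
  rw [Scheme.Hom.range_fiberι] at h
  exact h

theorem quasiFiniteAt_of_isOpen {X S : Scheme.{u}} (f : X ⟶ S) [LocallyOfFiniteType f] (s : S)
    (z : f.fiber s) (hz : IsOpen ({z} : Set (f.fiber s))) : f.QuasiFiniteAt (f.fiberι s z) := by
  have key : ∀ (x : X) (s : S) (_ : f x = s) (z : f.fiber s) (_ : f.fiberι s z = x)
      (_ : IsOpen ({z} : Set (f.fiber s))), f.QuasiFiniteAt x := by
    rintro x _ rfl z hzx ho
    rw [Scheme.Hom.quasiFiniteAt_iff_isOpen_singleton_asFiber]
    have : f.asFiber x = z := by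
      apply (f.fiberι (f x)).isEmbedding.injective
      rw [hzx]
      simp
    rw [this]
    exact ho
  exact key _ s (apply_fiberι f s z) z rfl hz

theorem main {X S : Scheme.{u}} (f : X ⟶ S) [LocallyOfFiniteType f] [IsSeparated f] (s : S)
    (hfin : {x : ↑(f.fiber s) | IsOpen ({x} : Set ↑(f.fiber s))}.Finite) :
    ∃ (U : Scheme.{u}) (g : U ⟶ S) (u : U), Hens2.IsEtaleNbhd g u s ∧
      ∃ V : (pullback f g).Opens, IsClopen (V : Set ↑(pullback f g)) ∧
        IsFinite (V.ι ≫ pullback.snd f g) ∧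
        ∀ w : ↑((pullback.snd f g).fiber u), (pullback.snd f g).fiberι u w ∉ V →
          ¬ IsOpen ({w} : Set ↑((pullback.snd f g).fiber u)) := by
  let T : Set X := f.fiberι s '' {x : ↑(f.fiber s) | IsOpen ({x} : Set ↑(f.fiber s))}
  obtain ⟨U, g, u, hu, V, hVc, hVf, hV⟩ :=
    Groth.Agent.Grpsch.EtLoc.exists_etaleNbhd_isFinite_of_finite f s T (hfin.image _)
      (by rintro _ ⟨z, -, rfl⟩; exact apply_fiberι f s z)
      (by rintro _ ⟨z, hz, rfl⟩; exact quasiFiniteAt_of_isOpen f s z hz)
  refine ⟨U, g, u, hu, V, ⟨hVc, V.isOpen⟩, hVf, ?_⟩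
  intro w hwV hw
  refine hwV ((hV _ (apply_fiberι _ u w)).mpr ?_)
  have hiso : IsIso (g.residueFieldMap u) :=
    (Groth.Agent.Grpsch.EtLoc.isIso_iff_bijective _).mpr hu.residue_bijective
  have H := isPullback_fiberToSpecResidueField_of_isPullback (IsPullback.of_hasPullback f g) u
  have hiso2 : IsIso (Spec.map (g.residueFieldMap u)) := inferInstance
  have hiso3 := H.isIso_fst_of_isIso
  let m : (pullback.snd f g).fiber u ⟶ f.fiber (g u) :=
    pullback.map (pullback.snd f g) (U.fromSpecResidueField u) f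
        (S.fromSpecResidueField (g u)) (pullback.fst f g)
      (Spec.map (Scheme.Hom.residueFieldMap g u)) g pullback.condition.symm (by simp)
  have hm : IsIso m := hiso3
  have hc : (pullback.snd f g).fiberι u ≫ pullback.fst f g = m ≫ f.fiberι (g u) :=
    (pullback.lift_fst _ _ _).symm
  have hmw : IsOpen ({m w} : Set (f.fiber (g u))) := by
    have := m.homeomorph.isOpenMap _ hw
    rwa [Set.image_singleton] at this
  have h1 : pullback.fst f g ((pullback.snd f g).fiberι u w) = f.fiberι (g u) (m w) := by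
    rw [← Scheme.Hom.comp_apply, hc, Scheme.Hom.comp_apply]
  have h2 : g u = s := hu.base_eq
  clear_value m
  rw [h1]
  clear h1 hc hm hiso3 H
  revert m
  rw [h2]
  intro m hmw
  exact ⟨m w, hmw, rfl⟩

end K258.SplitIso
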