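import Groth.Agent.OmegaSh.K584.PullCon
import Groth.Agent.OmegaSh.K584.UnivAff
import Groth.Agent.Flat2H.FSHom
import Groth.Agent.Flat2H.FSLift

/-!
# Formally étale morphisms and universal first order thickenings
-/

set_option autoImplicit false
universe u
open CategoryTheory CategoryTheory.Limits AlgebraicGeometry Opposite TopologicalSpace

namespace K258.UnivEtale

open Groth.Agent.PerfA.IdealModule Groth.Agent.VarietyB Groth.Agent.Sga67.Sec
open Groth.Agent.Dual.H366.ConSec Groth.Agent.Dual.H366.Conormal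
open K584.PullCon K584.Univ OmegaSh

/-- A module all whose sections vanish is zero. -/
theorem isZero_of_subsingleton {Y : Scheme.{u}} {N : Y.Modules}
    (h : ∀ V : Y.Opens, Subsingleton Γ(N, V)) : IsZero N := by
  rw [IsZero.iff_id_eq_zero]
  apply Scheme.Modules.hom_ext
  intro V
  ext s
  exact (h V).elim _ _

/-- The sections of a zero module vanish. -/
theorem subsingleton_sections_of_isZero {Y : Scheme.{u}} {G : Y.Modules} (h : IsZero G)
    (U : Y.Opens) : Subsingleton Γ(G, U) := by
  have h0 : (𝟙 G : G ⟶ G) = 0 := (IsZero.iff_id_eq_zero G).1 h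
  refine subsingleton_of_forall_eq 0 fun s => ?_
  have h1 : (𝟙 G : G ⟶ G).app U s = (0 : G ⟶ G).app U s := by rw [h0]
  simpa using h1

theorem isIso_of_ker_eq_bot {Z Y : Scheme.{u}} (i : Z ⟶ Y) [IsClosedImmersion i] (h : i.ker = ⊥) :
    IsIso i := by
  have h1 : IsClosedImmersion.lift i (𝟙 Y) (by rw [h]; exact bot_le) ≫ i = 𝟙 Y :=
    IsClosedImmersion.lift_fac _ _ _
  refine ⟨IsClosedImmersion.lift i (𝟙 Y) (by rw [h]; exact bot_le), ?_, h1⟩
  rw [← cancel_mono i, Category.assoc, h1]
  simp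

/-- A first order thickening with zero conormal sheaf is an isomorphism. -/
theorem isIso_of_isZero_conormal {X X' : Scheme.{u}} (i : X ⟶ X') (hi : FOT i)
    (h : IsZero (Omega.conormal i)) : IsIso i := by
  have := hi.closed
  refine isIso_of_ker_eq_bot i ?_
  ext V : 2
  rw [Scheme.IdealSheafData.ideal_bot, Pi.bot_apply, eq_bot_iff]
  intro a ha
  rw [Scheme.Hom.ker_apply, RingHom.mem_ker] at ha
  obtain ⟨s, rfl⟩ := (app_eq_zero_iffS i V.1 a).mp ha
  have h1 := subsingleton_sections_of_isZero h (i ⁻¹ᵁ V.1)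
  have h2 : s = 0 := cS_injective i hi.sqZ V.2 (h1.elim _ _)
  rw [h2]
  exact map_zero _

/-- The conormal sheaf of an isomorphism is zero. -/
theorem isZero_conormal_of_isIso {X X' : Scheme.{u}} (i : X ⟶ X') [IsIso i] :
    IsZero (Omega.conormal i) := by
  refine (Scheme.Modules.pullback i).map_isZero (isZero_of_subsingleton fun V => ?_)
  refine subsingleton_of_forall_eq 0 fun s => ?_
  have h1 : i.app V (valS i V s) = 0 := (app_eq_zero_iffS i V _).mpr ⟨s, rfl⟩
  have h2 : valS i V s = 0 := by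
    have : Function.Injective (i.app V) := (ConcreteCategory.bijective_of_isIso (i.app V)).1
    exact this (h1.trans (map_zero _).symm)
  exact valS_injective _ _ (h2.trans (map_zero _).symm)

theorem fot_id (X : Scheme.{u}) : FOT (𝟙 X) := by
  rw [fot_iff]
  refine ⟨inferInstance, inferInstance, ?_⟩
  intro V x y hx hy
  rw [Scheme.Hom.id_app] at hx
  have hx' : x = 0 := hx
  rw [hx', zero_mul]

theorem isUnivThickening_id_of_isFormallyEtaleHom {X S : Scheme.{u}} (f : X ⟶ S)
    (hf : MoreMor.IsFormallyEtaleHom f) : IsUnivThickening f (𝟙 X) f := by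
  refine ⟨fot_id X, Category.id_comp f, ?_⟩
  · intro T T' j b a hj w
    obtain ⟨h3, h4⟩ := (Groth.Agent.Flat2H.FSHom.isFormallyEtaleHom_iff f).mp hf
    obtain ⟨⟨h1, h2⟩, h5⟩ := hj
    have := Groth.Agent.Flat2H.FSLift.existsUnique_lift f h3 j ⟨2, by rw [pow_two]; exact h5⟩ a b w
    rw [Category.comp_id]
    exact this

theorem fot_Spec (A : Type u) [CommRing A] (I : Ideal A) (hI : I ^ 2 = ⊥) :
    FOT (Spec.map (CommRingCat.ofHom (Ideal.Quotient.mk I))) :=
  K584.UnivAff.fot_SpecMap _ Ideal.Quotient.mk_surjective (by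
    rw [CommRingCat.hom_ofHom, Ideal.mk_ker, hI])

theorem isFormallyEtaleHom_iff {X S : Scheme.{u}} (f : X ⟶ S) :
    MoreMor.IsFormallyEtaleHom f ↔ FormallyUnramified f ∧ IsUnivThickening f (𝟙 X) f := by
  constructor
  · intro h
    exact ⟨Groth.Agent.Flat2H.FSHom.formallyUnramified_of_isFormallyEtaleHom f h,
      isUnivThickening_id_of_isFormallyEtaleHom f h⟩
  · rintro ⟨-, -, -, h⟩
    intro A _ I hI a b w
    have := h _ _ _ b a (fot_Spec A I hI) w
    rw [Category.comp_id] at this
    exact this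

theorem isFormallyEtaleHom_iff_isZero_conormal {X X' S : Scheme.{u}} (f : X ⟶ S) (i : X ⟶ X')
    (h' : X' ⟶ S) (hf : FormallyUnramified f) (hu : IsUnivThickening f i h') :
    MoreMor.IsFormallyEtaleHom f ↔ IsZero (Omega.conormal i) := by
  constructor
  · intro h
    have hu' := isUnivThickening_id_of_isFormallyEtaleHom f h
    obtain ⟨e, he, -⟩ := isUnivThickening_unique f i h' (𝟙 X) f hu hu'
    have h1 : i = e.inv := by rw [← Category.comp_id i, ← e.hom_inv_id, ← Category.assoc, he,
      Category.id_comp]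
    have : IsIso i := by rw [h1]; infer_instance
    exact isZero_conormal_of_isIso i
  · intro h
    have := isIso_of_isZero_conormal i hu.1 h
    rw [isFormallyEtaleHom_iff]
    refine ⟨hf, fot_id X, Category.id_comp f, ?_⟩
    intro T T' j b a hj w
    obtain ⟨c, ⟨hc1, hc2⟩, hc3⟩ := hu.2.2 T T' j b a hj w
    have hif : inv i ≫ f = h' := by rw [IsIso.inv_comp_eq]; exact hu.2.1.symm
    refine ⟨c ≫ inv i, ⟨?_, ?_⟩, ?_⟩
    · rw [← Category.assoc, hc1, Category.assoc, IsIso.hom_inv_id]
    · rw [Category.assoc, hif, hc2]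
    · rintro d ⟨hd1, hd2⟩
      rw [← hc3 (d ≫ i) ⟨?_, ?_⟩, Category.assoc, IsIso.hom_inv_id, Category.comp_id]
      · change j ≫ d ≫ i = a ≫ i
        rw [← Category.assoc, hd1, Category.comp_id]
      · change (d ≫ i) ≫ h' = b
        rw [Category.assoc, hu.2.1, hd2]

end K258.UnivEtale
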